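import Mathlib.GroupTheory.Sylow
import Mathlib.GroupTheory.PGroup
import Mathlib.GroupTheory.Abelianization.Defs
import Mathlib.GroupTheory.Index

/-!
The minimal configuration for the fixed-point theorem of Shult type (statement S3041).

`G` is the perfect group `[G, σ]`, `σ` an automorphism of prime order `r = 2 ^ m + 1` prime to `|G|`,
`S` a `σ`-invariant Sylow 2-subgroup, `U = [S, σ]`, `Z` its fixed points (so `U` is special with
centre `Z`). Everything the representation contributes is packed into the fields `small` and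
`blocks`: a nontrivial element of `Z` is avoided by a hyperplane `Z₁` of `Z` whose radical in `U`
has index `(2 ^ m) ^ 2`.
-/

set_option autoImplicit false

open Subgroup

namespace H85.Shult

variable {G : Type*} [Group G]

/-- Invariance of a subgroup under an automorphism. -/
def Inv (σ : MulAut G) (H : Subgroup G) : Prop := ∀ h ∈ H, σ h ∈ H

/-- The subgroup generated by the displacements `σ h * h⁻¹`, `h ∈ H`; it is `[H, σ]`. -/
def disp (σ : MulAut G) (H : Subgroup G) : Subgroup G :=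
  closure ((fun h => σ h * h⁻¹) '' (H : Set G))

/-- The fixed points of an automorphism. -/
def fixed (σ : MulAut G) : Subgroup G where
  carrier := {g | σ g = g}
  one_mem' := map_one σ
  mul_mem' := fun {a b} ha hb => by
    show σ (a * b) = a * b
    rw [map_mul, ha, hb]
  inv_mem' := fun {a} ha => by
    show σ a⁻¹ = a⁻¹
    rw [map_inv, ha]

@[simp] theorem mem_fixed {σ : MulAut G} {g : G} : g ∈ fixed σ ↔ σ g = g := Iff.rfl

/-- The minimal configuration. -/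
structure Cfg (σ : MulAut G) (r m p : ℕ) (S U Z : Subgroup G) : Prop where
  hr : r.Prime
  hrm : r = 2 ^ m + 1
  m_pos : 0 < m
  hp : p.Prime
  hp2 : p ≠ 2
  hpr : p ≠ r
  hσ : σ ^ r = 1
  hcop : ¬ r ∣ Nat.card G
  perfect : commutator G = ⊤
  gen : disp σ ⊤ = ⊤
  normal_le : ∀ N : Subgroup G, N.Normal → Inv σ N → N ≠ ⊤ → N ≤ center G
  center_fix : ∀ z ∈ center G, σ z = z
  centre_two : Nat.card ↥(Z ⊓ center G) ≤ 2
  pS : IsPGroup 2 S
  invS : Inv σ S
  indexS : ¬ 2 ∣ S.index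
  defU : U = disp σ S
  defZ : ∀ u : G, u ∈ Z ↔ u ∈ U ∧ σ u = u
  exists_moved : ∃ u ∈ U, σ u ≠ u
  sqU : ∀ u ∈ U, u * u ∈ Z
  comU : ∀ u ∈ U, ∀ v ∈ U, u * v * u⁻¹ * v⁻¹ ∈ Z
  cenU : ∀ u ∈ U, ∀ z ∈ Z, u * z = z * u
  sqZ : ∀ z ∈ Z, z * z = 1
  odd_fixed : ∀ (q : ℕ), q.Prime → q ≠ 2 → q ≠ p → ∀ Q : Subgroup G, IsPGroup q Q → Inv σ Q →
    ∀ x ∈ Q, σ x = x
  small : ∀ H : Subgroup G, Inv σ H → H ≠ ⊤ → ∃ K : Subgroup G, K ≤ H ∧ IsPGroup p K ∧ Inv σ K ∧
    H ≤ normalizer (K : Set G) ∧ ∀ x ∈ disp σ H, ∃ n : ℕ, x ^ 2 ^ n ∈ K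
  centre_U : ∀ u ∈ U, (∀ v ∈ U, u * v = v * u) → u ∈ Z
  blocks : ∀ z ∈ Z, z ≠ 1 → ∃ Z₁ R₀ : Subgroup G, Z₁ ≤ Z ∧ z ∉ Z₁ ∧ Z₁.relIndex Z = 2 ∧
    (∀ w ∈ Z₁, w ∈ center G → w = 1) ∧
    (∀ u : G, u ∈ R₀ ↔ u ∈ U ∧ ∀ v ∈ U, u * v * u⁻¹ * v⁻¹ ∈ Z₁) ∧
    R₀.relIndex U = (2 ^ m) ^ 2

/-- The unique maximal invariant overgroup of `U`, present when `|Z : Z ∩ Z(G)| ≥ 4`. -/
structure Top (σ : MulAut G) (U Z H₀ : Subgroup G) : Prop where
  inv : Inv σ H₀
  ne_top : H₀ ≠ ⊤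
  normU_le : normalizer (U : Set G) ≤ H₀
  cen_le : ∀ e ∈ Z, e ∉ center G → centralizer ({e} : Set G) ≤ H₀
  max : ∀ H : Subgroup G, Inv σ H → H ≠ ⊤ → U ≤ H → H ≤ H₀

theorem subset_disp {σ : MulAut G} {H : Subgroup G} {h : G} (hh : h ∈ H) :
    σ h * h⁻¹ ∈ disp σ H := subset_closure ⟨h, hh, rfl⟩

theorem disp_mono {σ : MulAut G} {H K : Subgroup G} (hHK : H ≤ K) : disp σ H ≤ disp σ K :=
  closure_mono (Set.image_mono hHK)

theorem disp_le {σ : MulAut G} {H : Subgroup G} (hH : Inv σ H) : disp σ H ≤ H := by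
  rw [disp, closure_le]
  rintro _ ⟨h, hh, rfl⟩
  exact mul_mem (hH h hh) (inv_mem hh)

theorem inv_disp {σ : MulAut G} {H : Subgroup G} (hH : Inv σ H) : Inv σ (disp σ H) := by
  intro x hx
  have : (disp σ H).map σ.toMonoidHom ≤ disp σ H := by
    rw [disp, MonoidHom.map_closure, closure_le]
    rintro _ ⟨_, ⟨h, hh, rfl⟩, rfl⟩
    refine subset_closure ⟨σ h, hH h hh, ?_⟩
    simp
  exact this (mem_map_of_mem _ hx)

/-- `H` normalises `[H, σ]`. -/
theorem le_normalizer_disp {σ : MulAut G} {H : Subgroup G} :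
    H ≤ normalizer (disp σ H : Set G) := by
  have key : ∀ g ∈ H, ∀ x ∈ disp σ H, g * x * g⁻¹ ∈ disp σ H := by
    intro g hg x hx
    induction hx using Subgroup.closure_induction with
    | mem y hy =>
      obtain ⟨h, hh, rfl⟩ := hy
      have e : g * (σ h * h⁻¹) * g⁻¹ = (σ g * g⁻¹)⁻¹ * (σ (g * h) * (g * h)⁻¹) := by
        rw [map_mul]; group
      rw [e]
      exact mul_mem (inv_mem (subset_disp hg)) (subset_disp (mul_mem hg hh))
    | one => simp
    | mul a b _ _ ha hb =>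
      have e : g * (a * b) * g⁻¹ = (g * a * g⁻¹) * (g * b * g⁻¹) := by group
      rw [e]; exact mul_mem ha hb
    | inv a _ ha =>
      have e : g * a⁻¹ * g⁻¹ = (g * a * g⁻¹)⁻¹ := by group
      rw [e]; exact inv_mem ha
  intro g hg
  rw [mem_normalizer_iff]
  refine fun x => ⟨fun hx => key g hg x hx, fun hx => ?_⟩
  have := key g⁻¹ (inv_mem hg) _ hx
  simpa [mul_assoc] using this

namespace Cfg

variable {σ : MulAut G} {r m p : ℕ} {S U Z : Subgroup G}

theorem U_le_S (C : Cfg σ r m p S U Z) : U ≤ S := C.defU ▸ disp_le C.invS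

theorem invU (C : Cfg σ r m p S U Z) : Inv σ U := C.defU ▸ inv_disp C.invS

theorem Z_le_U (C : Cfg σ r m p S U Z) : Z ≤ U := fun z hz => ((C.defZ z).mp hz).1

theorem fixZ (C : Cfg σ r m p S U Z) {z : G} (hz : z ∈ Z) : σ z = z := ((C.defZ z).mp hz).2

theorem mem_Z (C : Cfg σ r m p S U Z) {u : G} (hu : u ∈ U) (hf : σ u = u) : u ∈ Z :=
  (C.defZ u).mpr ⟨hu, hf⟩

theorem pU (C : Cfg σ r m p S U Z) : IsPGroup 2 U := C.pS.to_le C.U_le_S

theorem S_le_normU (C : Cfg σ r m p S U Z) : S ≤ normalizer (U : Set G) :=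
  C.defU ▸ le_normalizer_disp

theorem invZ (C : Cfg σ r m p S U Z) : Inv σ Z := fun z hz => by rw [C.fixZ hz]; exact hz

theorem U_ne_bot (C : Cfg σ r m p S U Z) : U ≠ ⊥ := by
  intro h
  obtain ⟨u, hu, hne⟩ := C.exists_moved
  rw [h, mem_bot] at hu
  exact hne (by rw [hu, map_one])

theorem invNormU (C : Cfg σ r m p S U Z) : Inv σ (normalizer (U : Set G)) := by
  intro g hg
  have hU : ∀ u : G, σ u ∈ U ↔ u ∈ U := by
    refine fun u => ⟨fun h => ?_, C.invU u⟩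
    have hk : ∀ k : ℕ, ∀ x ∈ U, (σ ^ k) x ∈ U := by
      intro k
      induction k with
      | zero => exact fun x hx => hx
      | succ k ih => intro x hx; rw [pow_succ', MulAut.mul_apply]; exact C.invU _ (ih x hx)
    have := hk (r - 1) _ h
    rwa [← MulAut.mul_apply, ← pow_succ, Nat.sub_add_cancel C.hr.one_le, C.hσ,
      MulAut.one_apply] at this
  rw [mem_normalizer_iff] at hg ⊢
  intro x
  obtain ⟨y, rfl⟩ := σ.surjective x
  rw [← map_inv, ← map_mul, ← map_mul, hU, hU]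
  exact hg y

end Cfg

end H85.Shult
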