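import Cfsg.Agent.H41.Shult.TwoAct

/-!
Shult's fixed point theorem, several radicals: a group of odd order transitive on `Z` modulo the
centre fixes an odd character, all others being blocks; radicals of two blocks meet in `Z`.
-/

set_option autoImplicit false
set_option linter.all false

open Subgroup

namespace H85.Shult.TwoShape

open H41.Shult (FormData OddCh Two act)

/-- A nonempty set of nontrivial characters of `A / K` invariant under automorphisms transitive on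
`A \ K` modulo `K` is full. -/
theorem dual_transitive {A : Type*} [Group A] [Finite A] (K : Subgroup A)
    {P : (A →* ℤˣ) → Prop}
    (htr : ∀ a b : A, a ∉ K → b ∉ K → ∃ f : A ≃* A, (f a)⁻¹ * b ∈ K ∧ (∀ k ∈ K, f k ∈ K) ∧
      ∀ ε, P ε ↔ P (ε.comp f.toMonoidHom))
    (hne : ∃ ε : A →* ℤˣ, ε ≠ 1 ∧ (∀ k ∈ K, ε k = 1) ∧ P ε) :
    ∀ η : A →* ℤˣ, η ≠ 1 → (∀ k ∈ K, η k = 1) → P η := by
  classical
  haveI : Fintype A := Fintype.ofFinite A
  haveI : Finite (A →* ℤˣ) := Finite.of_injective _ DFunLike.coe_injective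
  haveI : Fintype (A →* ℤˣ) := Fintype.ofFinite _
  set O := Finset.univ.filter (fun ε : A →* ℤˣ => ε ≠ 1 ∧ (∀ k ∈ K, ε k = 1) ∧ P ε) with hO
  set g : A → ℤ := fun a => ∑ ε ∈ O, ((ε a : ℤˣ) : ℤ) with hg
  have hgK : ∀ a ∈ K, g a = O.card := fun a ha => by
    rw [hg]
    show ∑ ε ∈ O, ((ε a : ℤˣ) : ℤ) = _
    rw [Finset.sum_congr rfl fun ε hε => by
      rw [(Finset.mem_filter.mp hε).2.2.1 a ha]]
    simp
  have hconst : ∀ a b : A, a ∉ K → b ∉ K → g a = g b := by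
    intro a b ha hb
    obtain ⟨f, hf, hfK, hP⟩ := htr a b ha hb
    have hfK' : ∀ k ∈ K, f.symm k ∈ K := by
      intro k hk
      have hinj : Function.Injective (fun x : K => (⟨f x, hfK x x.2⟩ : K)) := fun x y e =>
        Subtype.ext (f.injective (congrArg Subtype.val e))
      obtain ⟨⟨x, hx⟩, e⟩ := (Finite.injective_iff_surjective.mp hinj) ⟨k, hk⟩
      rw [← show f x = k from congrArg Subtype.val e, f.symm_apply_apply]
      exact hx
    have e1 : ∀ ε : A →* ℤˣ, (ε.comp f.symm.toMonoidHom).comp f.toMonoidHom = ε := fun ε =>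
      MonoidHom.ext fun x => by simp
    have e2 : ∀ ε : A →* ℤˣ, (ε.comp f.toMonoidHom).comp f.symm.toMonoidHom = ε := fun ε =>
      MonoidHom.ext fun x => by simp
    refine Finset.sum_nbij' (fun ε => ε.comp f.symm.toMonoidHom) (fun ε => ε.comp f.toMonoidHom)
      ?_ ?_ ?_ ?_ ?_
    · intro ε hε
      simp only [hO, Finset.mem_coe, Finset.mem_filter, Finset.mem_univ, true_and] at hε ⊢
      refine ⟨fun h => hε.1 ?_, fun k hk => hε.2.1 _ (hfK' k hk), (hP _).mpr (by rw [e1]; exact hε.2.2)⟩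
      rw [← e1 ε, h]; rfl
    · intro ε hε
      simp only [hO, Finset.mem_coe, Finset.mem_filter, Finset.mem_univ, true_and] at hε ⊢
      refine ⟨fun h => hε.1 ?_, fun k hk => hε.2.1 _ (hfK k hk), (hP _).mp hε.2.2⟩
      rw [← e2 ε, h]; rfl
    · intro ε _; exact e1 ε
    · intro ε _; exact e2 ε
    · intro ε hε
      have hεK := (Finset.mem_filter.mp hε).2.2.1
      have hbe : b = f a * ((f a)⁻¹ * b) := by group
      show ((ε a : ℤˣ) : ℤ) = ((ε (f.symm b) : ℤˣ) : ℤ)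
      conv_rhs => rw [hbe, map_mul, f.symm_apply_apply, map_mul, hεK _ (hfK' _ hf), mul_one]
  have hkey : ∀ η : A →* ℤˣ, ∑ a : A, g a * ((η a : ℤˣ) : ℤ) =
      if η ∈ O then (Nat.card A : ℤ) else 0 := by
    intro η
    simp only [hg, Finset.sum_mul]
    rw [Finset.sum_comm]
    have hs : ∀ ε : A →* ℤˣ, ∑ a : A, ((ε a : ℤˣ) : ℤ) * ((η a : ℤˣ) : ℤ) =
        if ε = η then (Nat.card A : ℤ) else 0 := by
      intro ε
      split
      · next h =>
        subst h
        simp [← Units.val_mul, Int.units_mul_self, Nat.card_eq_fintype_card]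
      · next h =>
        have hne : ε * η ≠ 1 := fun e => h (MonoidHom.ext fun x => by
          have := DFunLike.congr_fun e x
          rw [MonoidHom.mul_apply, MonoidHom.one_apply] at this
          rw [eq_inv_of_mul_eq_one_left this, Int.units_inv_eq_self])
        simpa [Units.val_mul] using FormData.sum_char hne
    rw [Finset.sum_congr rfl fun ε _ => hs ε, Finset.sum_ite_eq']
  obtain ⟨ε, hε1, hεK, hεP⟩ := hne
  intro η hη hηK
  by_contra hPη
  obtain ⟨b, hb⟩ : ∃ b, η b ≠ 1 := by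
    by_contra hc
    push Not at hc
    exact hη (MonoidHom.ext hc)
  have hbK : b ∉ K := fun h => hb (hηK b h)
  have hval : ∀ χ : A →* ℤˣ, χ ≠ 1 → (∀ k ∈ K, χ k = 1) →
      ∑ a : A, g a * ((χ a : ℤˣ) : ℤ) = ∑ a : A, if a ∈ K then (O.card : ℤ) - g b else 0 := by
    intro χ hχ hχK
    have e : ∀ a : A, g a * ((χ a : ℤˣ) : ℤ) =
        g b * ((χ a : ℤˣ) : ℤ) + if a ∈ K then (O.card : ℤ) - g b else 0 := by
      intro a
      split
      · next h => rw [hgK a h, hχK a h]; simp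
      · next h => rw [hconst a b h hbK]; ring
    rw [Finset.sum_congr rfl fun a _ => e a, Finset.sum_add_distrib, ← Finset.mul_sum,
      FormData.sum_char hχ]
    simp
  have h1 := (hval η hη hηK).symm.trans (hkey η)
  have h2 := (hval ε hε1 hεK).symm.trans (hkey ε)
  rw [if_neg (by simp [hO, hPη])] at h1
  rw [if_pos (by simp only [hO, Finset.mem_filter, Finset.mem_univ, true_and]; exact ⟨hε1, hεK, hεP⟩),
    h1] at h2
  have := Nat.card_pos (α := A)
  omega

variable {G : Type*} [Group G] [Finite G] {σ : MulAut G} {r m p : ℕ} {S U Z H₀ : Subgroup G}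

/-- A character trivial on the central elements. -/
def EvenCh (U Z : Subgroup G) (χ : (Z.subgroupOf U) →* ℤˣ) : Prop :=
  ∀ z : Z.subgroupOf U, ((z : U) : G) ∈ center G → χ z = 1

/-- The central elements of `Z`. -/
def zc (U Z : Subgroup G) : Subgroup (Z.subgroupOf U) :=
  ((center G).comap U.subtype).comap (Z.subgroupOf U).subtype

omit [Finite G] in
theorem ch_sq {A : Type*} [Group A] (χ : A →* ℤˣ) : χ * χ = 1 :=
  MonoidHom.ext fun x => Int.units_mul_self (χ x)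

omit [Finite G] in
theorem ch_eq {A : Type*} [Group A] {χ ψ : A →* ℤˣ} (h : χ * ψ = 1) : χ = ψ := by
  rw [← mul_one χ, ← ch_sq ψ, ← mul_assoc, h, one_mul]

variable (B : Two σ r m p S U Z H₀)
include B

theorem even_mul_odd {ε η : (Z.subgroupOf U) →* ℤˣ} (hε : OddCh U Z ε) (hη : OddCh U Z η) :
    EvenCh U Z (ε * η) := fun z hz => by
  rw [MonoidHom.mul_apply, B.odd_eq hε hη hz, Int.units_mul_self]

omit B in
theorem odd_mul_even {ε χ : (Z.subgroupOf U) →* ℤˣ} (hε : OddCh U Z ε) (hχ : EvenCh U Z χ) :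
    OddCh U Z (ε * χ) := fun z hz hz1 => by
  rw [MonoidHom.mul_apply, hχ z hz, mul_one]; exact hε z hz hz1

theorem odd_or_even (χ : (Z.subgroupOf U) →* ℤˣ) : OddCh U Z χ ∨ EvenCh U Z χ := by
  by_cases h : EvenCh U Z χ
  · exact Or.inr h
  refine Or.inl fun z hz hz1 hz' => h fun w hw => ?_
  by_cases hw1 : w = 1
  · rw [hw1, map_one]
  have : w = z := Subtype.ext (Subtype.ext (B.two_center (B.zS w) hw (B.zS z) hz
    (fun e => hw1 (Subtype.ext (Subtype.ext e))) (fun e => hz1 (Subtype.ext (Subtype.ext e)))))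
  rw [this, hz']

theorem exists_central : ∃ z : Z.subgroupOf U, ((z : U) : G) ∈ center G ∧ z ≠ 1 := by
  obtain ⟨z, hz, hzc, hz1⟩ := B.central
  exact ⟨B.toZ hz, hzc, fun e => hz1 (congrArg (fun t : Z.subgroupOf U => ((t : U) : G)) e)⟩

theorem not_odd_of_even {χ : (Z.subgroupOf U) →* ℤˣ} (h : EvenCh U Z χ) : ¬ OddCh U Z χ := by
  obtain ⟨z, hz, hz1⟩ := exists_central B
  exact fun ho => ho z hz hz1 (h z hz)

theorem pull_inv {φ : MulAut U} (hφ : φ ∈ act σ U) (ε : (Z.subgroupOf U) →* ℤˣ) :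
    B.pull φ⁻¹ (inv_mem hφ) (B.pull φ hφ ε) = ε :=
  MonoidHom.ext fun z => by
    rw [B.pull_apply, B.pull_apply]
    exact congrArg ε (Subtype.ext (φ.apply_symm_apply (z : U)))

theorem pull_mul_ch {φ : MulAut U} (hφ : φ ∈ act σ U) (ε η : (Z.subgroupOf U) →* ℤˣ) :
    B.pull φ hφ (ε * η) = B.pull φ hφ ε * B.pull φ hφ η := MonoidHom.ext fun z => rfl

theorem pull_even {φ : MulAut U} (hφ : φ ∈ act σ U) {χ : (Z.subgroupOf U) →* ℤˣ}
    (hχ : EvenCh U Z χ) : EvenCh U Z (B.pull φ hφ χ) := by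
  intro z hz
  obtain ⟨n, -, -, he⟩ := H41.Shult.mem_act.mp hφ
  refine hχ _ ?_
  show ((φ (z : U) : U) : G) ∈ center G
  rw [he]
  exact (inferInstance : (center G).Normal).conj_mem _ hz n

variable {D : Subgroup (MulAut U)} (hD : D ≤ act σ U)
  (htr : ∀ a : U, (a : G) ∈ Z → (a : G) ∉ center G → ∀ b : U, (b : G) ∈ Z → (b : G) ∉ center G →
    ∃ φ ∈ D, ((φ a : U) : G)⁻¹ * b ∈ center G)

include hD htr in
/-- An invariant property of nontrivial even characters holds for all of them or none. -/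
theorem all_even {P : ((Z.subgroupOf U) →* ℤˣ) → Prop}
    (hinv : ∀ φ, ∀ hφ : φ ∈ D, ∀ χ, P χ → P (B.pull φ (hD hφ) χ))
    (hne : ∃ χ, χ ≠ 1 ∧ EvenCh U Z χ ∧ P χ) {χ : (Z.subgroupOf U) →* ℤˣ} (h1 : χ ≠ 1)
    (he : EvenCh U Z χ) : P χ := by
  refine dual_transitive (zc U Z) (P := P) (fun a b ha hb => ?_) hne χ h1 he
  obtain ⟨φ, hφ, hab⟩ := htr a (B.zS a) ha b (B.zS b) hb
  have hφ' : φ⁻¹ ∈ D := inv_mem hφ
  let f : (Z.subgroupOf U) ≃* (Z.subgroupOf U) :=
    { toFun := fun z => ⟨φ z, B.act_Z (hD hφ) z.2⟩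
      invFun := fun z => ⟨φ⁻¹ (z : U), B.act_Z (inv_mem (hD hφ)) z.2⟩
      left_inv := fun z => Subtype.ext (φ.symm_apply_apply (z : U))
      right_inv := fun z => Subtype.ext (φ.apply_symm_apply (z : U))
      map_mul' := fun x y => Subtype.ext (map_mul φ (x : U) (y : U)) }
  have hf : ∀ ε : (Z.subgroupOf U) →* ℤˣ, ε.comp f.toMonoidHom = B.pull φ (hD hφ) ε := fun ε =>
    MonoidHom.ext fun z => rfl
  refine ⟨f, hab, fun k hk => ?_, fun ε => ?_⟩
  · obtain ⟨n, -, -, he⟩ := H41.Shult.mem_act.mp (hD hφ)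
    show ((φ (k : U) : U) : G) ∈ center G
    rw [he]
    exact (inferInstance : (center G).Normal).conj_mem _ hk n
  · rw [hf]
    refine ⟨hinv φ hφ ε, fun h => ?_⟩
    have := hinv φ⁻¹ hφ' _ h
    rwa [pull_inv B] at this

include hD htr in
/-- No nontrivial even character is a block. -/
theorem not_blk_even {χ : (Z.subgroupOf U) →* ℤˣ} (h1 : χ ≠ 1) (he : EvenCh U Z χ) :
    ¬ B.fd.Blk χ := by
  intro hb
  obtain ⟨ε, η, e1, e2, f1, f2, hne⟩ := B.exists_two
  refine hne (B.fd.blk_eq e2 f2 (all_even B hD htr (P := B.fd.Blk)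
    (fun φ hφ ψ hψ => B.pull_blk (hD hφ) hψ) ⟨χ, h1, he, hb⟩ ?_ (even_mul_odd B e1 f1)))
  exact fun h => hne (by rw [ch_eq h])

include hD htr in
/-- Distinct odd blocks have distinct radicals. -/
theorem rad_ne {ε η : (Z.subgroupOf U) →* ℤˣ} (e1 : OddCh U Z ε) (e2 : B.fd.Blk ε)
    (f1 : OddCh U Z η) (hne : ε ≠ η) : B.fd.rad ε ≠ B.fd.rad η := by
  intro h
  have hle : B.fd.rad ε ≤ B.fd.rad (ε * η) := fun u hu v => by
    rw [MonoidHom.mul_apply, hu v, (h ▸ hu : u ∈ B.fd.rad η) v, one_mul]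
  rcases e2.2 _ (fun u hu => B.fd.sigma_rad hu) hle with he | he
  · refine not_blk_even B hD htr (fun h' => hne (ch_eq h')) (even_mul_odd B e1 f1) ⟨?_, ?_⟩
    · rw [he]; exact e2.1
    · intro H hH hle'
      rw [he] at hle' ⊢
      exact e2.2 H hH hle'
  · exact hne (ch_eq (B.eq_one_of_rad_top fun u => he ▸ mem_top u))

include hD htr in
/-- The shape of the odd characters. -/
theorem shape (hodd : Odd (Nat.card D)) :
    ∃ ε₀, OddCh U Z ε₀ ∧ (∀ φ, ∀ hφ : φ ∈ D, B.pull φ (hD hφ) ε₀ = ε₀) ∧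
      ∀ ε, OddCh U Z ε → ε ≠ ε₀ → B.fd.Blk ε := by
  classical
  obtain ⟨α, β, a1, a2, b1, b2, hne⟩ := B.exists_two
  haveI : Fintype D := Fintype.ofFinite D
  set ε₀ := ∏ φ : D, B.pull (φ : MulAut U) (hD φ.2) α with hε₀
  have happ : ∀ z, ε₀ z = ∏ φ : D, B.pull (φ : MulAut U) (hD φ.2) α z := fun z => by
    rw [hε₀, MonoidHom.finsetProd_apply]
  have h0 : OddCh U Z ε₀ := by
    intro z hz hz1
    rw [happ]
    have : ∀ φ : D, B.pull (φ : MulAut U) (hD φ.2) α z = -1 := fun φ =>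
      (Int.units_eq_one_or _).resolve_left (B.pull_odd (hD φ.2) a1 z hz hz1)
    rw [Finset.prod_congr rfl fun φ _ => this φ, Finset.prod_const, Finset.card_univ,
      ← Nat.card_eq_fintype_card, hodd.neg_one_pow]
    decide
  have hfix : ∀ φ, ∀ hφ : φ ∈ D, B.pull φ (hD hφ) ε₀ = ε₀ := by
    intro ψ hψ
    refine MonoidHom.ext fun z => ?_
    rw [B.pull_apply, happ, happ]
    refine Fintype.prod_equiv (Equiv.mulRight ⟨ψ, hψ⟩) _ _ fun φ => ?_
    rw [B.pull_apply, B.pull_apply]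
    rfl
  refine ⟨ε₀, h0, hfix, fun ε he hne0 => ?_⟩
  have key : ∀ χ, χ ≠ 1 → EvenCh U Z χ → B.fd.Blk (ε₀ * χ) := by
    refine fun χ h1 h2 => all_even B hD htr (P := fun χ => B.fd.Blk (ε₀ * χ)) ?_ ?_ h1 h2
    · intro φ hφ χ hχ
      have := B.pull_blk (hD hφ) hχ
      rwa [pull_mul_ch B, hfix φ hφ] at this
    · by_cases hα : α = ε₀
      · refine ⟨ε₀ * β, fun h => hne (by rw [hα, ch_eq h]), even_mul_odd B h0 b1, ?_⟩
        show B.fd.Blk (ε₀ * (ε₀ * β))
        rwa [← mul_assoc, ch_sq, one_mul]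
      · refine ⟨ε₀ * α, fun h => hα (ch_eq h).symm, even_mul_odd B h0 a1, ?_⟩
        show B.fd.Blk (ε₀ * (ε₀ * α))
        rwa [← mul_assoc, ch_sq, one_mul]
  have := key (ε₀ * ε) (fun h => hne0 (ch_eq h).symm) (even_mul_odd B h0 he)
  rwa [← mul_assoc, ch_sq, one_mul] at this

theorem card_inf_center : Nat.card (Z ⊓ center G : Subgroup G) = 2 := by
  obtain ⟨z, hz, hzc, hz1⟩ := B.central
  refine Nat.card_eq_two_iff.mpr ⟨1, ⟨z, hz, hzc⟩, fun h => hz1 (congrArg Subtype.val h).symm, ?_⟩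
  refine Set.eq_univ_of_forall fun w => ?_
  by_cases hw : (w : G) = 1
  · exact Or.inl (Subtype.ext hw)
  · exact Or.inr (Set.mem_singleton_iff.mpr
      (Subtype.ext (B.two_center w.2.1 w.2.2 hz hzc hw hz1)))

/-- The odd characters are as many as the elements of `Z` modulo the centre. -/
theorem card_oddCh :
    Nat.card {ε : (Z.subgroupOf U) →* ℤˣ // OddCh U Z ε} = (Z ⊓ center G).relIndex Z := by
  classical
  haveI : Finite ((Z.subgroupOf U) →* ℤˣ) := Finite.of_injective _ DFunLike.coe_injective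
  obtain ⟨α, -, a1, -⟩ := B.exists_two
  let e : {ε : (Z.subgroupOf U) →* ℤˣ // OddCh U Z ε} ≃
      {ε : (Z.subgroupOf U) →* ℤˣ // ¬ OddCh U Z ε} :=
    { toFun := fun ε => ⟨α * ε, not_odd_of_even B (even_mul_odd B a1 ε.2)⟩
      invFun := fun χ => ⟨α * χ, odd_mul_even a1 ((odd_or_even B _).resolve_left χ.2)⟩
      left_inv := fun ε => Subtype.ext (show α * (α * ε.1) = ε.1 by rw [← mul_assoc, ch_sq, one_mul])
      right_inv := fun χ => Subtype.ext (show α * (α * χ.1) = χ.1 by rw [← mul_assoc, ch_sq, one_mul]) }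
  have h1 := Nat.card_congr (Equiv.sumCompl fun ε : (Z.subgroupOf U) →* ℤˣ => OddCh U Z ε)
  rw [Nat.card_sum, ← Nat.card_congr e, B.fd.card_dual,
    Nat.card_congr (subgroupOfEquivOfLe B.hZU).toEquiv,
    ← ((Z ⊓ center G).subgroupOf Z).card_mul_index,
    Nat.card_congr (subgroupOfEquivOfLe (inf_le_left : Z ⊓ center G ≤ Z)).toEquiv,
    card_inf_center B] at h1
  show _ = ((Z ⊓ center G).subgroupOf Z).index
  omega

/-- An odd character avoiding a given small set. -/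
theorem exists_odd_avoid (s : Finset ((Z.subgroupOf U) →* ℤˣ))
    (hs : s.card < (Z ⊓ center G).relIndex Z) : ∃ ε, OddCh U Z ε ∧ ε ∉ s := by
  classical
  haveI : Finite ((Z.subgroupOf U) →* ℤˣ) := Finite.of_injective _ DFunLike.coe_injective
  haveI : Fintype ((Z.subgroupOf U) →* ℤˣ) := Fintype.ofFinite _
  by_contra hc
  push Not at hc
  rw [← card_oddCh B, Nat.card_eq_fintype_card, Fintype.card_subtype] at hs
  refine absurd (Finset.card_le_card fun ε hε => ?_) (not_le.mpr hs)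
  exact hc ε (Finset.mem_filter.mp hε).2

/-- The radicals of two blocks with the same join `⊤` meet in the radical of the product. -/
theorem rad_mul_le {α β : (Z.subgroupOf U) →* ℤˣ} (ht : B.fd.rad α ⊔ B.fd.rad β = ⊤) :
    B.fd.rad (α * β) ≤ B.fd.rad α ⊓ B.fd.rad β := by
  have key : ∀ α β : (Z.subgroupOf U) →* ℤˣ, B.fd.rad α ⊔ B.fd.rad β = ⊤ →
      B.fd.rad (α * β) ≤ B.fd.rad β := by
    intro α β ht u h v
    haveI := B.fd.rad_normal β
    obtain ⟨a, ha, b, hb, rfl⟩ := mem_sup_of_normal_right.mp (ht.ge (mem_top v))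
    have h1 : β (B.fd.cm u a) = 1 := by
      have := h a
      rw [MonoidHom.mul_apply, B.fd.cm_comm u a, ha u, one_mul] at this
      rw [B.fd.cm_comm u a]; exact this
    have h2 : β (B.fd.cm u b) = 1 := by rw [B.fd.cm_comm u b]; exact hb u
    rw [B.fd.cm_mul_right, map_mul, h1, h2, one_mul]
  exact le_inf (mul_comm α β ▸ key β α (by rw [sup_comm]; exact ht)) (key α β ht)

/-- Distinct radicals of blocks span. -/
theorem sup_top {α β : (Z.subgroupOf U) →* ℤˣ} (ha : B.fd.Blk α) (hb : B.fd.Blk β)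
    (hne : B.fd.rad α ≠ B.fd.rad β) : B.fd.rad α ⊔ B.fd.rad β = ⊤ := by
  haveI := B.fd.rad_normal β
  refine (ha.2 _ (fun y hy => ?_) le_sup_left).resolve_left fun he => hne ?_
  · obtain ⟨a, ha', b, hb', rfl⟩ := mem_sup_of_normal_right.mp hy
    rw [map_mul]
    exact mul_mem (mem_sup_left (B.fd.sigma_rad ha')) (mem_sup_right (B.fd.sigma_rad hb'))
  · refine (eq_of_le_of_card_ge (le_sup_right.trans he.le) (le_of_eq ?_)).symm
    have h1 := (B.fd.rad α).card_mul_index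
    have h2 := (B.fd.rad β).card_mul_index
    rw [ha.1] at h1
    rw [hb.1] at h2
    exact Nat.eq_of_mul_eq_mul_right (by positivity) (h1.trans h2.symm)

section

variable {ε₀ : (Z.subgroupOf U) →* ℤˣ} (hblk : ∀ ε, OddCh U Z ε → ε ≠ ε₀ → B.fd.Blk ε)

include hD htr hblk in
/-- Radicals of distinct odd blocks meet in `Z`. -/
theorem rad_inf (hN : 8 ≤ (Z ⊓ center G).relIndex Z ∨ B.fd.Blk ε₀)
    {ε η : (Z.subgroupOf U) →* ℤˣ} (e1 : OddCh U Z ε) (e2 : B.fd.Blk ε) (f1 : OddCh U Z η)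
    (f2 : B.fd.Blk η) (hne : ε ≠ η) : B.fd.rad ε ⊓ B.fd.rad η = Z.subgroupOf U := by
  classical
  have hodd3 : ∀ {a b c : (Z.subgroupOf U) →* ℤˣ}, OddCh U Z a → OddCh U Z b → OddCh U Z c →
      OddCh U Z (a * b * c) := fun {a b c} ha hb hc => by
    rw [mul_comm]; exact odd_mul_even hc (even_mul_odd B ha hb)
  have step : ∀ {a b c : (Z.subgroupOf U) →* ℤˣ}, OddCh U Z a → B.fd.Blk a → OddCh U Z b →
      B.fd.Blk b → OddCh U Z c → B.fd.Blk c → a ≠ b → (¬ B.fd.Blk ε₀ → a * b * c ≠ ε₀) →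
      B.fd.rad a ⊓ B.fd.rad b ≤ B.fd.rad c := by
    intro a b c a1 a2 b1 b2 c1 c2 hab h0
    by_contra hP
    have h := B.fd.four a2 b2 c2 (rad_ne B hD htr a1 a2 b1 hab) hP
    have he : a * b * c = ε₀ := by_contra fun h' => h (hblk _ (hodd3 a1 b1 c1) h')
    exact h0 (he ▸ h) he
  have main : ∀ ζ, OddCh U Z ζ → B.fd.Blk ζ → B.fd.rad ε ⊓ B.fd.rad η ≤ B.fd.rad ζ := by
    intro ζ z1 z2
    by_contra hP
    by_cases h0 : ε * η * ζ = ε₀ ∧ ¬ B.fd.Blk ε₀
    swap
    · exact hP (step e1 e2 f1 f2 z1 z2 hne fun hb he => h0 ⟨he, hb⟩)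
    obtain ⟨h0, hb⟩ := h0
    have h8 := hN.resolve_right hb
    obtain ⟨θ, t1, ht⟩ := exists_odd_avoid B {ε, η, ζ, ε₀}
      (lt_of_le_of_lt Finset.card_le_four (by omega))
    simp only [Finset.mem_insert, Finset.mem_singleton, not_or] at ht
    obtain ⟨t2, t3, t4, t5⟩ := ht
    have tb := hblk θ t1 t5
    have h1 : B.fd.rad ε ⊓ B.fd.rad η ≤ B.fd.rad θ := step e1 e2 f1 f2 t1 tb hne
      fun _ he => t4 (mul_left_cancel (he.trans h0.symm))
    refine hP ((le_inf inf_le_left h1).trans (step e1 e2 t1 tb z1 z2 (Ne.symm t2) fun _ he => ?_))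
    have := he.trans h0.symm
    exact t3 (mul_left_cancel (mul_right_cancel this))
  refine le_antisymm (fun u hu => ?_) (le_inf (B.fd.le_rad ε) (B.fd.le_rad η))
  by_contra huZ
  obtain ⟨ζ, z1, z2, hout⟩ := B.exists_oblk (u := u) huZ
  exact hout (main ζ z1 z2 hu)

include hD htr hblk in
/-- The index of `Z` in `U`. -/
theorem index_Z (hN : 8 ≤ (Z ⊓ center G).relIndex Z ∨ B.fd.Blk ε₀) :
    (Z.subgroupOf U).index = 2 ^ (4 * m) := by
  obtain ⟨ε, η, e1, e2, f1, f2, hne⟩ := B.exists_two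
  haveI := B.fd.rad_normal ε
  rw [← rad_inf B hD htr hblk hN e1 e2 f1 f2 fun h => hne (h ▸ rfl),
    ← relIndex_mul_index (inf_le_right : B.fd.rad ε ⊓ B.fd.rad η ≤ B.fd.rad η),
    inf_relIndex_right, ← relIndex_sup_left, sup_top B e2 f2 hne, relIndex_top_right, e2.1, f2.1,
    ← pow_add]
  congr 1
  omega

include hD htr hblk in
/-- Nontrivial even characters have radical `Z`. -/
theorem rad_even (hN : 8 ≤ (Z ⊓ center G).relIndex Z ∨ B.fd.Blk ε₀)
    (χ : (Z.subgroupOf U) →* ℤˣ) (h1 : χ ≠ 1) (he : EvenCh U Z χ) :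
    B.fd.rad χ = Z.subgroupOf U := by
  classical
  obtain ⟨ε, e1, hs⟩ := exists_odd_avoid B {ε₀, ε₀ * χ}
    (lt_of_le_of_lt Finset.card_le_two (by have := B.h4; omega))
  simp only [Finset.mem_insert, Finset.mem_singleton, not_or] at hs
  have f1 : OddCh U Z (ε * χ) := odd_mul_even e1 he
  have f2 := hblk _ f1 fun h => hs.2 (by rw [← h, mul_assoc, ch_sq, mul_one])
  have e2 := hblk ε e1 hs.1
  have hne : ε ≠ ε * χ := fun h => h1 (mul_eq_left.mp h.symm)
  refine le_antisymm (fun u hu => ?_) (B.fd.le_rad χ)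
  have hχ : χ = ε * (ε * χ) := by rw [← mul_assoc, ch_sq, one_mul]
  rw [← rad_inf B hD htr hblk hN e1 e2 f1 f2 hne]
  exact rad_mul_le B (sup_top B e2 f2 (rad_ne B hD htr e1 e2 f1 hne)) (hχ ▸ hu)

end

end H85.Shult.TwoShape
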