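import Cfsg.Agent.H85.Shult.Rep

/-!
Consequences of irreducibility of `G⟨σ⟩` on the fixed-point-free module.
-/

set_option autoImplicit false
set_option linter.style.haveILetI false
set_option linter.unusedSectionVars false

open Subgroup

namespace H85.Shult

universe u v w

variable {G : Type u} [Group G] [Finite G] {k : Type v} [Field k]
  {V : Type w} [AddCommGroup V] [Module k V]

/-- No proper nonzero subspace is invariant under `G` and `T`. -/
def Irred (ρ : G →* Module.End k V) (T : Module.End k V) : Prop :=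
  ∀ W : Submodule k V, (∀ g : G, ∀ v ∈ W, ρ g v ∈ W) → (∀ v ∈ W, T v ∈ W) → W = ⊥ ∨ W = ⊤

variable {σ : MulAut G} {r p : ℕ} [Fact p.Prime] [CharP k p]
  {ρ : G →* Module.End k V} {T : Module.End k V}

theorem Rep.fixed_of_commute (R : Rep σ r ρ T) {a : G} (h : T * ρ a = ρ a * T) : σ a = a := by
  apply R.inj
  have hu : Function.Surjective T := fun v => ⟨(T ^ (r - 1)) v, by
    rw [← Module.End.mul_apply, ← pow_succ', Nat.sub_add_cancel R.hr.one_le, R.pow]; rfl⟩
  refine LinearMap.ext fun v => ?_
  obtain ⟨w, rfl⟩ := hu v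
  rw [← Module.End.mul_apply, ← R.comm, h]
  rfl

theorem Rep.inv_pow_mem (R : Rep σ r ρ T) {N : Subgroup G} (hN : Inv σ N) {n : G}
    (hn : n ∈ N) : σ.symm n ∈ N := by
  obtain ⟨x, hx, rfl⟩ := H12.RComp.Inv.exists_preimage (α := σ) hN hn
  rwa [MulEquiv.symm_apply_apply]

/-- A normal invariant `p`-subgroup is trivial. -/
theorem Rep.normal_p_bot [Nontrivial V] (R : Rep σ r ρ T) (hI : Irred ρ T) (N : Subgroup G)
    [hn : N.Normal] (hN : IsPGroup p N) (hinv : Inv σ N) : N = ⊥ := by
  obtain ⟨v, hv0, hv⟩ := H35.exists_fixed_vector (F := k) hN (ρ.comp N.subtype)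
  let W : Submodule k V := ⨅ n : N, LinearMap.ker (ρ n - 1)
  have hW : ∀ w, w ∈ W ↔ ∀ n ∈ N, ρ n w = w := fun w => by
    simp [W, Submodule.mem_iInf, sub_eq_zero]
  rcases hI W (fun g w hw => by
      rw [hW] at hw ⊢
      intro n hn'
      have e : n * g = g * (g⁻¹ * n * g) := by group
      rw [← Module.End.mul_apply, ← map_mul, e, map_mul, Module.End.mul_apply,
        hw _ (by simpa using hn.conj_mem n hn' g⁻¹)])
    (fun w hw => by
      rw [hW] at hw ⊢
      intro n hn'
      have h := LinearMap.congr_fun (R.comm (σ.symm n)) w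
      rw [MulEquiv.apply_symm_apply, Module.End.mul_apply, Module.End.mul_apply,
        hw _ (R.inv_pow_mem hinv hn')] at h
      exact h.symm) with h | h
  · have : v ∈ W := (hW v).mpr fun n hn' => hv ⟨n, hn'⟩
    rw [h, Submodule.mem_bot] at this
    exact absurd this hv0
  · rw [eq_bot_iff_forall]
    intro n hn'
    apply R.inj
    rw [map_one]
    exact LinearMap.ext fun w => (hW w).mp (h ▸ Submodule.mem_top) n hn'

variable [IsAlgClosed k] [FiniteDimensional k V]

/-- An operator commuting with `G` and `T` is a scalar. -/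
theorem Irred.scalar [Nontrivial V] (hI : Irred ρ T) (f : Module.End k V)
    (hfρ : ∀ g, f * ρ g = ρ g * f) (hfT : f * T = T * f) :
    ∃ l : k, f = l • (1 : Module.End k V) := by
  obtain ⟨l, hl⟩ := Module.End.exists_eigenvalue f
  refine ⟨l, ?_⟩
  rcases hI (Module.End.eigenspace f l) (fun g v hv => by
      rw [Module.End.mem_eigenspace_iff] at hv ⊢
      rw [← Module.End.mul_apply, hfρ, Module.End.mul_apply, hv, map_smul])
    (fun v hv => by
      rw [Module.End.mem_eigenspace_iff] at hv ⊢
      rw [← Module.End.mul_apply, hfT, Module.End.mul_apply, hv, map_smul]) with h | h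
  · exact absurd h hl
  · refine LinearMap.ext fun v => ?_
    have : v ∈ Module.End.eigenspace f l := h ▸ Submodule.mem_top
    rw [Module.End.mem_eigenspace_iff] at this
    simpa using this

/-- Fixed central elements act as scalars. -/
theorem Rep.scalar_of_fixed [Nontrivial V] (R : Rep σ r ρ T) (hI : Irred ρ T) {z : G}
    (hz : z ∈ center G) (hf : σ z = z) : ∃ l : k, ρ z = l • (1 : Module.End k V) :=
  hI.scalar _ (fun g => by rw [← map_mul, ← map_mul, mem_center_iff.mp hz g])
    (by rw [R.comm, hf])

/-- A central involution is `-1`. -/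
theorem Rep.neg_of_central [Nontrivial V] (R : Rep σ r ρ T) (hI : Irred ρ T) {z : G}
    (hz : z ∈ center G) (hf : σ z = z) (h2 : z * z = 1) (h1 : z ≠ 1) (v : V) : ρ z v = -v := by
  obtain ⟨l, hl⟩ := R.scalar_of_fixed hI hz hf
  obtain ⟨w, hw⟩ := exists_ne (0 : V)
  have hll : (l * l) • w = w := by
    have := LinearMap.congr_fun (congrArg ρ h2) w
    rwa [map_mul, map_one, hl, Module.End.mul_apply, LinearMap.smul_apply, LinearMap.smul_apply,
      Module.End.one_apply, Module.End.one_apply, smul_smul] at this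
  have : l * l = 1 := by
    by_contra hne
    exact hw ((smul_eq_zero.mp (show (l * l - 1) • w = 0 by
      rw [sub_smul, hll, one_smul, sub_self])).resolve_left (sub_ne_zero.mpr hne))
  rcases mul_self_eq_one_iff.mp this with h | h
  · exact absurd (R.inj (by rw [hl, h, one_smul, map_one])) h1
  · rw [hl, h, LinearMap.smul_apply, Module.End.one_apply, neg_one_smul]

end H85.Shult
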