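import Cfsg.Agent.H85.Shult.Minimal
import Cfsg.Agent.H10.Shult.RankOne
import Cfsg.Agent.H83.Shult.NotFixed

/-!
The irreducible core of the fixed-point theorem of Shult type, from the impossibility of `Cfg`.
-/

set_option autoImplicit false
set_option linter.style.haveILetI false
set_option linter.unusedSectionVars false

open Subgroup

namespace H85.Shult

universe u v

variable {k : Type v} [Field k] [IsAlgClosed k] {r p : ℕ} [Fact p.Prime] [CharP k p]

/-- The case division for a configuration. -/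
theorem Cfg.false {G : Type u} [Group G] [Finite G] {σ : MulAut G} {m : ℕ} {S U Z : Subgroup G}
    (C : Cfg σ r m p S U Z)
    (hTop : 4 ≤ (Z ⊓ center G).relIndex Z → ∃ H₀, Top σ U Z H₀)
    (hBig : 4 ≤ (Z ⊓ center G).relIndex Z → ∀ H₀, Top σ U Z H₀ → fixed σ ≤ H₀) : False := by
  by_cases h : (Z ⊓ center G).relIndex Z ≤ 2
  · exact H10.Shult.rank_le_one C h
  · have h4 : 4 ≤ (Z ⊓ center G).relIndex Z := by
      haveI : Fact (Nat.Prime 2) := ⟨Nat.prime_two⟩
      obtain ⟨j, hj⟩ := IsPGroup.iff_card.mp (C.pU.to_le C.Z_le_U)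
      have hd : (Z ⊓ center G).relIndex Z ∣ 2 ^ j := hj ▸ Subgroup.index_dvd_card _
      obtain ⟨i, -, hi⟩ := (Nat.dvd_prime_pow Nat.prime_two).mp hd
      rw [hi] at h ⊢
      have : 2 ≤ i := by
        by_contra hlt
        exact h ((Nat.pow_le_pow_right (by norm_num) (by omega : i ≤ 1)).trans (by norm_num))
      exact le_trans (by norm_num) (Nat.pow_le_pow_right (by norm_num : 1 ≤ 2) this)
    obtain ⟨H₀, T⟩ := hTop h4
    exact H83.Shult.not_fixed_le_top C h4 T (hBig h4 H₀ T)

/-- The induction. -/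
theorem coreUpTo_of
    (hNo : ∀ (G : Type u) [Group G] [Finite G] (V : Type v) [AddCommGroup V] [Module k V]
      [FiniteDimensional k V] [Nontrivial V] (σ : MulAut G) (ρ : G →* Module.End k V)
      (T : Module.End k V), Rep σ r ρ T → p ≠ 2 → Irred ρ T → disp σ (⊤ : Subgroup G) = ⊤ →
      ¬ IsPGroup 2 G →
      (∀ H : Subgroup G, Inv σ H → H ≠ ⊤ → ∃ K : Subgroup G, K ≤ H ∧ IsPGroup p K ∧ Inv σ K ∧
        H ≤ normalizer (K : Set G) ∧ ∀ x ∈ disp σ H, ∃ j : ℕ, x ^ 2 ^ j ∈ K) → NoMovedTwo σ)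
    (hCfg : ∀ (G : Type u) [Group G] [Finite G] (σ : MulAut G) (m : ℕ) (S U Z : Subgroup G),
      Cfg σ r m p S U Z → False) :
    ∀ n, CoreUpTo.{u, v} k r n := by
  intro n
  induction n with
  | zero =>
    intro G _ _ V _ _ _ _ σ ρ T hn
    exact absurd (Nat.card_pos (α := G)) (by omega)
  | succ n ih =>
    intro G _ _ V _ _ _ _ σ ρ T hn R hI
    by_contra hno
    have hsmall := fun H hH hne => small_of_lt (p := p) ih R hn H hH hne
    have hgen := gen_of_small (p := p) R hI hsmall hno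
    have hno' : ¬ IsPGroup 2 G := fun h => hno (h.to_subgroup _)
    obtain ⟨m, S, U, Z, C⟩ := exists_cfg (p := p) R hI hsmall hgen hno'
      (fun hp2 => hNo G V σ ρ T R hp2 hI hgen hno' hsmall)
    exact hCfg G σ m S U Z C

end H85.Shult
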