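import Mathlib
import Cfsg.Agent.H12.RComp.Basic

/-!
An elementary abelian group `W` of order `2 ^ (2 m)` with a fixed-point-free automorphism `s` of
prime order `r = 2 ^ m + 1` is irreducible under `s`, and an automorphism commuting with `s`,
preserving a nondegenerate `s`-invariant pairing and of order prime to `r` is trivial: it is a
polynomial `f(s)`, whose adjoint is `f(s⁻¹) = f(s) ^ (2 ^ m)`.
-/

set_option autoImplicit false

open Subgroup

namespace H85.Shult

variable {W : Type*} [CommGroup W] [Finite W]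

theorem not_dvd_two_pow_sub_one {r m j : ℕ} (hrm : r = 2 ^ m + 1) (hj0 : 0 < j)
    (hj : j < 2 * m) : ¬ r ∣ 2 ^ j - 1 := by
  intro hd
  have h1 : 1 ≤ 2 ^ j := Nat.one_le_two_pow
  by_cases hjm : j ≤ m
  · have h2 : 2 ^ j ≤ 2 ^ m := Nat.pow_le_pow_right (by norm_num) hjm
    have h3 : 2 ≤ 2 ^ j := Nat.le_self_pow hj0.ne' 2
    have := Nat.le_of_dvd (by omega) hd
    omega
  · obtain ⟨i, rfl⟩ : ∃ i, j = m + i := ⟨j - m, by omega⟩
    have hi : i < m := by omega
    have h2 : r ∣ 2 ^ i + 1 := by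
      have h4 : r ∣ 2 ^ (m + i) + 2 ^ i := ⟨2 ^ i, by rw [hrm, pow_add]; ring⟩
      have h4' : 1 ≤ 2 ^ (m + i) := Nat.one_le_two_pow
      have h5 : 2 ^ (m + i) + 2 ^ i = (2 ^ (m + i) - 1) + (2 ^ i + 1) := by
        rw [add_comm (2 ^ i) 1, ← add_assoc, Nat.sub_add_cancel h4']
      rw [h5] at h4
      exact (Nat.dvd_add_right hd).mp h4
    have h6 := Nat.le_of_dvd (Nat.succ_pos _) h2
    have h7 : 2 ^ i < 2 ^ m := Nat.pow_lt_pow_right (by norm_num) hi
    omega

/-- An invariant subgroup is trivial or everything. -/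
theorem invariant_eq_bot_or_top {r m : ℕ} (hr : r.Prime) (hrm : r = 2 ^ m + 1)
    (hW2 : IsPGroup 2 W) (hcard : Nat.card W = 2 ^ (2 * m)) (s : MulAut W) (hs : s ^ r = 1)
    (hfree : ∀ w, s w = w → w = 1) (Y : Subgroup W) (hY : ∀ y ∈ Y, s y ∈ Y) :
    Y = ⊥ ∨ Y = ⊤ := by
  have : Fact r.Prime := ⟨hr⟩
  have : Fact (Nat.Prime 2) := ⟨Nat.prime_two⟩
  obtain ⟨j, hj⟩ := IsPGroup.iff_card.mp (hW2.to_subgroup Y)
  have hdvd : 2 ^ j ∣ 2 ^ (2 * m) := hj ▸ hcard ▸ Y.card_subgroup_dvd_card
  have hjle : j ≤ 2 * m := (Nat.pow_dvd_pow_iff_le_right (by norm_num)).mp hdvd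
  rcases Nat.eq_zero_or_pos j with rfl | hj0
  · exact Or.inl (Subgroup.eq_bot_of_card_eq Y (by simpa using hj))
  rcases hjle.eq_or_lt with rfl | hlt
  · exact Or.inr (Subgroup.eq_top_of_card_eq Y (hj.trans hcard.symm))
  exfalso
  apply not_dvd_two_pow_sub_one hrm hj0 hlt
  by_contra hnd
  have hc : Nat.card ((Y : Set W) \ {1} : Set W) = 2 ^ j - 1 := by
    rw [Nat.card_coe_set_eq, Set.ncard_diff_singleton_of_mem Y.one_mem, ← Nat.card_coe_set_eq]
    exact congrArg (fun n => n - 1) hj
  obtain ⟨x, hx, hxf⟩ := H12.RComp.exists_fixed_mem hs ((Y : Set W) \ {1})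
    (fun x hx => ⟨hY x hx.1, fun h => hx.2 (by
      have : s x = 1 := h
      exact (map_eq_one_iff s s.injective).mp this)⟩) (by rw [hc]; exact hnd)
  exact hx.2 (hfree x hxf)

theorem add_pow_two_pow {R : Type*} [Ring R] (h2 : ∀ a : R, a + a = 0) {f g : R}
    (hfg : f * g = g * f) (n : ℕ) : (f + g) ^ 2 ^ n = f ^ 2 ^ n + g ^ 2 ^ n := by
  induction n with
  | zero => simp
  | succ n ih =>
    have hc : f ^ 2 ^ n * g ^ 2 ^ n = g ^ 2 ^ n * f ^ 2 ^ n :=
      ((show Commute f g from hfg).pow_pow (2 ^ n) (2 ^ n)).eq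
    rw [pow_succ, pow_mul, ih, pow_two, pow_mul, pow_mul, pow_two, pow_two, add_mul, mul_add,
      mul_add, hc, add_assoc, ← add_assoc (g ^ 2 ^ n * f ^ 2 ^ n), h2, zero_add]

/-- An isometry commuting with `s` is trivial. -/
theorem isometry_eq_one {r m : ℕ} (hr : r.Prime) (hrm : r = 2 ^ m + 1)
    (hexp : ∀ w : W, w * w = 1) (hcard : Nat.card W = 2 ^ (2 * m)) (s : MulAut W)
    (hs : s ^ r = 1) (hfree : ∀ w, s w = w → w = 1) {A : Type*} [CommGroup A]
    (B : W → W → A) (hBl : ∀ x x' y, B (x * x') y = B x y * B x' y)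
    (hBr : ∀ x y y', B x (y * y') = B x y * B x y')
    (hnd : ∀ y, (∀ x, B x y = 1) → y = 1)
    (hBs : ∀ x y, B (s x) (s y) = B x y)
    (c : MulAut W) (hcs : ∀ w, c (s w) = s (c w)) (hBc : ∀ x y, B (c x) (c y) = B x y)
    {N : ℕ} (hcN : c ^ N = 1) (hN : ¬ r ∣ N) : c = 1 := by
  classical
  have hW2 : IsPGroup 2 W := fun w => ⟨1, by rw [pow_one, pow_two, hexp]⟩
  let toE : MulAut W →* AddMonoid.End (Additive W) :=
    { toFun := fun f => MonoidHom.toAdditive f.toMonoidHom
      map_one' := rfl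
      map_mul' := fun f g => rfl }
  have htoE : ∀ (f : MulAut W) (w : W), toE f (Additive.ofMul w) = Additive.ofMul (f w) :=
    fun _ _ => rfl
  have h2 : ∀ f : AddMonoid.End (Additive W), f + f = 0 := fun f =>
    AddMonoidHom.ext fun x => by
      show f x + f x = 0
      exact congrArg Additive.ofMul (hexp (Additive.toMul (f x)))
  let R := Subring.closure ({toE s} : Set (AddMonoid.End (Additive W)))
  have hcommS : ∀ f ∈ R, f * toE s = toE s * f := by
    intro f hf
    induction hf using Subring.closure_induction with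
    | mem x hx => rw [Set.mem_singleton_iff.mp hx]
    | zero => rw [zero_mul, mul_zero]
    | one => rw [one_mul, mul_one]
    | add x y _ _ hx hy => rw [add_mul, mul_add, hx, hy]
    | neg x _ hx => rw [show -x = x from neg_eq_of_add_eq_zero_left (h2 x)]; exact hx
    | mul x y _ _ hx hy => rw [mul_assoc, hy, ← mul_assoc, hx, mul_assoc]
  have hcommR : ∀ f ∈ R, ∀ g ∈ R, f * g = g * f := by
    intro f hf g hg
    induction hg using Subring.closure_induction with
    | mem x hx => rw [Set.mem_singleton_iff.mp hx, hcommS f hf]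
    | zero => rw [zero_mul, mul_zero]
    | one => rw [one_mul, mul_one]
    | add x y _ _ hx hy => rw [add_mul, mul_add, hx, hy]
    | neg x _ hx => rw [show -x = x from neg_eq_of_add_eq_zero_left (h2 x)]; exact hx
    | mul x y _ _ hx hy => rw [← mul_assoc, hx, mul_assoc, hy, ← mul_assoc]
  set ce := toE c with hce
  have hceS : ce * toE s = toE s * ce := by
    rw [hce, ← map_mul, ← map_mul]
    exact congrArg toE (MulEquiv.ext hcs)
  have hceR' : ∀ f ∈ R, ce * f = f * ce := by
    intro f hf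
    induction hf using Subring.closure_induction with
    | mem x hx => rw [Set.mem_singleton_iff.mp hx, hceS]
    | zero => rw [zero_mul, mul_zero]
    | one => rw [one_mul, mul_one]
    | add x y _ _ hx hy => rw [add_mul, mul_add, hx, hy]
    | neg x _ hx => rw [show -x = x from neg_eq_of_add_eq_zero_left (h2 x)]; exact hx
    | mul x y _ _ hx hy => rw [← mul_assoc, hx, mul_assoc, hy, ← mul_assoc]
  -- `c` is a polynomial in `s`
  have hcR : ce ∈ R := by
    by_cases htriv : ∀ w : W, w = 1
    · have h : ce = 1 := AddMonoidHom.ext fun x =>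
        (congrArg Additive.ofMul (htriv (Additive.toMul (ce x)))).trans
          (congrArg Additive.ofMul (htriv (Additive.toMul x))).symm
      rw [h]; exact one_mem R
    obtain ⟨w, hw⟩ := not_forall.mp htriv
    let Y : Subgroup W :=
      { carrier := {x | ∃ f ∈ R, f (Additive.ofMul w) = Additive.ofMul x}
        one_mem' := ⟨0, zero_mem R, rfl⟩
        mul_mem' := fun {a b} ⟨f, hf, hfa⟩ ⟨g, hg, hgb⟩ => ⟨f + g, add_mem hf hg, by
          show f (Additive.ofMul w) + g (Additive.ofMul w) = _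
          rw [hfa, hgb]; rfl⟩
        inv_mem' := fun {a} ⟨f, hf, hfa⟩ => ⟨-f, neg_mem hf, by
          show -(f (Additive.ofMul w)) = _
          rw [hfa]; rfl⟩ }
    have hY : ∀ y ∈ Y, s y ∈ Y := fun y ⟨f, hf, hfy⟩ =>
      ⟨toE s * f, mul_mem (Subring.subset_closure rfl) hf, by
        show toE s (f (Additive.ofMul w)) = _
        rw [hfy, htoE]⟩
    rcases invariant_eq_bot_or_top hr hrm hW2 hcard s hs hfree Y hY with hbot | htop
    · have : w ∈ Y := ⟨1, one_mem R, rfl⟩
      rw [hbot, Subgroup.mem_bot] at this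
      exact absurd this hw
    · obtain ⟨f, hf, hfw⟩ : c w ∈ Y := by rw [htop]; exact Subgroup.mem_top _
      have : ce = f := by
        refine AddMonoidHom.ext fun x => ?_
        obtain ⟨g, hg, hgx⟩ : Additive.toMul x ∈ Y := by rw [htop]; exact Subgroup.mem_top _
        change g (Additive.ofMul w) = x at hgx
        rw [← hgx]
        show (ce * g) (Additive.ofMul w) = (f * g) (Additive.ofMul w)
        rw [hceR' g hg, hcommR f hf g hg]
        show g (ce (Additive.ofMul w)) = g (f (Additive.ofMul w))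
        rw [hfw, hce, htoE]
      rw [this]; exact hf
  -- adjoints
  let b : Additive W → Additive W → A := fun x y => B (Additive.toMul x) (Additive.toMul y)
  have hb1 : ∀ y, B 1 y = 1 := fun y => by
    have := hBl 1 1 y
    rw [one_mul] at this
    exact left_eq_mul.mp this
  have hb1' : ∀ x, B x 1 = 1 := fun x => by
    have := hBr x 1 1
    rw [one_mul] at this
    exact left_eq_mul.mp this
  have hP : ∀ f ∈ R, ∀ x y, b (f x) y = b x ((f ^ 2 ^ m) y) := by
    intro f hf
    induction hf using Subring.closure_induction with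
    | mem g hg =>
      intro x y
      rw [Set.mem_singleton_iff.mp hg, ← map_pow]
      have hsq : s * s ^ 2 ^ m = 1 := by rw [← pow_succ', ← hrm, hs]
      have e : Additive.toMul y = s ((s ^ 2 ^ m) (Additive.toMul y)) := by
        rw [← MulAut.mul_apply, hsq, MulAut.one_apply]
      show B (s (Additive.toMul x)) (Additive.toMul y) =
        B (Additive.toMul x) ((s ^ 2 ^ m) (Additive.toMul y))
      rw [← hBs (Additive.toMul x), ← e]
    | zero =>
      intro x y
      rw [zero_pow (by positivity)]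
      show B 1 (Additive.toMul y) = B (Additive.toMul x) 1
      rw [hb1, hb1']
    | one => intro x y; rw [one_pow]; rfl
    | add f g hf hg hPf hPg =>
      intro x y
      rw [add_pow_two_pow h2 (hcommR f hf g hg)]
      show B (Additive.toMul (f x) * Additive.toMul (g x)) _ =
        B _ (Additive.toMul ((f ^ 2 ^ m) y) * Additive.toMul ((g ^ 2 ^ m) y))
      rw [hBl, hBr]
      exact congrArg₂ (· * ·) (hPf x y) (hPg x y)
    | neg f _ hPf =>
      intro x y
      rw [show -f = f from neg_eq_of_add_eq_zero_left (h2 f)]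
      exact hPf x y
    | mul f g hf hg hPf hPg =>
      intro x y
      rw [(show Commute f g from hcommR f hf g hg).mul_pow,
        ((show Commute f g from hcommR f hf g hg).pow_pow _ _).eq]
      show b (f (g x)) y = b x ((g ^ 2 ^ m) ((f ^ 2 ^ m) y))
      rw [hPf, hPg]
  have hfix : ∀ y, (c ^ 2 ^ m) (c y) = y := by
    intro y
    have h : ∀ x, B x ((c ^ 2 ^ m) (c y) * y⁻¹) = 1 := by
      intro x
      have h1 : B (c x) (c y) = B x ((c ^ 2 ^ m) (c y)) := by
        have := hP ce hcR (Additive.ofMul x) (Additive.ofMul (c y))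
        rw [hce, ← map_pow] at this
        exact this
      rw [hBc] at h1
      rw [hBr, ← h1, ← hBr, mul_inv_cancel, hb1']
    exact mul_inv_eq_one.mp (hnd _ h)
  have hcr : c ^ r = 1 := MulEquiv.ext fun y => by
    rw [hrm, pow_succ, MulAut.mul_apply, hfix, MulAut.one_apply]
  have hco : r.Coprime N := (hr.coprime_iff_not_dvd).mpr hN
  have hd := Nat.dvd_gcd (orderOf_dvd_of_pow_eq_one hcr) (orderOf_dvd_of_pow_eq_one hcN)
  rw [hco.gcd_eq_one] at hd
  exact orderOf_eq_one_iff.mp (Nat.dvd_one.mp hd)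

end H85.Shult
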