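import Cfsg.Agent.H85.Shult.Core
import Cfsg.Agent.H12.Shult.Top
import Cfsg.Agent.H83.Shult.TCase
import Cfsg.Agent.H10.Shult.Extend

/-!
The fixed-point theorem of Shult type, from the statement that the fixed points lie in the
maximal invariant overgroup of `U`.
-/

set_option autoImplicit false
set_option linter.style.haveILetI false
set_option linter.unusedSectionVars false

open Subgroup

namespace H85.Shult

universe u v w

/-- The hypothesis proved in the module on fixed points outside the maximal overgroup. -/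
def FixedInTop (r : ℕ) : Prop :=
  ∀ (G : Type u) [Group G] [Finite G] (σ : MulAut G) (m p : ℕ) (S U Z H₀ : Subgroup G),
    Cfg σ r m p S U Z → 4 ≤ (Z ⊓ center G).relIndex Z → Top σ U Z H₀ → fixed σ ≤ H₀

theorem coreUpTo {k : Type v} [Field k] [IsAlgClosed k] {r p : ℕ} [Fact p.Prime] [CharP k p]
    (hB : FixedInTop.{u} r) : ∀ n, CoreUpTo.{u, v} k r n :=
  coreUpTo_of (p := p)
    (fun G _ _ V _ _ _ _ σ ρ T R hp2 hI hD hnot hsmall T₀ hn h2 hinv x hx => by
      by_contra hne
      haveI := hn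
      exact H83.Shult.no_moved_normal_two R hp2 hI hD hnot hsmall T₀ h2 hinv ⟨x, hx, hne⟩)
    (fun G _ _ σ m S U Z C => C.false (fun h4 => H12.Shult.exists_top_of_cent C
      (fun c hc hcN hcZ => mem_centralizer_iff.mpr fun u hu => (H3.Shult.cent C hc hcN hcZ u hu).symm) h4)
      (fun h4 H₀ T => hB G σ m p S U Z H₀ C h4 T))

theorem shult {X : Type u} [Group X] [Finite X] (G R : Subgroup X) [G.Normal] (hX : G ⊔ R = ⊤)
    (r : ℕ) (hr : r.Prime) (hR : Nat.card R = r) (hcop : ¬ r ∣ Nat.card G)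
    {k : Type v} [Field k] {p : ℕ} [Fact p.Prime] [CharP k p]
    {V : Type w} [AddCommGroup V] [Module k V] [FiniteDimensional k V] [Nontrivial V]
    (hB : FixedInTop.{u} r)
    (ρ : Representation k X V) (hfaith : Function.Injective ρ)
    (hirr : ∀ W : Submodule k V, (∀ x : X, W.map (ρ x) ≤ W) → W = ⊥ ∨ W = ⊤)
    (hfix : ∀ v : V, (∀ x ∈ R, ρ x v = v) → v = 0) :
    ⁅G, R⁆ = ⊥ ∨
      ((∃ m : ℕ, r = 2 ^ m + 1) ∧ ¬ IsMulCommutative ↥⁅G, R⁆ ∧ Cfsg.IsSpecial 2 ↥⁅G, R⁆) := by
  haveI : CharP (AlgebraicClosure k) p :=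
    charP_of_injective_algebraMap (algebraMap k (AlgebraicClosure k)).injective p
  exact H10.Shult.shult_of_core G R hX r hr hR hcop (p := p) (coreUpTo (p := p) hB) ρ hfaith hirr hfix

end H85.Shult
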