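import Cfsg.Agent.H85.Shult.Reduce

/-!
A minimal counterexample to the fixed-point theorem of Shult type gives a configuration `Cfg`.
-/

set_option autoImplicit false
set_option linter.style.haveILetI false
set_option linter.unusedSectionVars false

open Subgroup
open scoped commutatorElement

namespace H85.Shult

open H12.RComp (restrict coe_restrict)

universe u v

variable {k : Type v} [Field k] [IsAlgClosed k] {r p : ℕ} [Fact p.Prime] [CharP k p]

/-- The hypothesis that there is no moved normal invariant `2`-subgroup. -/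
def NoMovedTwo {G : Type u} [Group G] (σ : MulAut G) : Prop :=
  ∀ T₀ : Subgroup G, T₀.Normal → IsPGroup 2 T₀ → Inv σ T₀ → ∀ x ∈ T₀, σ x = x

variable {G : Type u} [Group G] [Finite G] {V : Type v} [AddCommGroup V] [Module k V]
  [FiniteDimensional k V] [Nontrivial V] {σ : MulAut G} {ρ : G →* Module.End k V}
  {T : Module.End k V}

/-- `[D, σ] = ⊤` when the group is not a counterexample below the top. -/
theorem gen_of_small (R : Rep σ r ρ T) (hI : Irred ρ T)
    (hsmall : ∀ H : Subgroup G, Inv σ H → H ≠ ⊤ → ∃ K : Subgroup G, K ≤ H ∧ IsPGroup p K ∧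
      Inv σ K ∧ H ≤ normalizer (K : Set G) ∧ ∀ x ∈ disp σ H, ∃ j : ℕ, x ^ 2 ^ j ∈ K)
    (hno : ¬ IsPGroup 2 (disp σ (⊤ : Subgroup G))) : disp σ (⊤ : Subgroup G) = ⊤ := by
  by_contra hne
  set D := disp σ (⊤ : Subgroup G) with hD
  have hDi : Inv σ D := inv_disp (inv_top σ)
  haveI hDn : D.Normal := normalizer_eq_top_iff.mp (top_le_iff.mp le_normalizer_disp)
  obtain ⟨K, hKD, hKp, -, hKn, hKx⟩ := hsmall D hDi hne
  -- the normal `p`-core of `D` is trivial
  let P : Subgroup G := (Cfsg.pCore p ↥D).map D.subtype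
  haveI : P.Normal := by
    haveI := H1.pCore_characteristic p ↥D
    exact ConjAct.normal_of_characteristic_of_normal
  have hPi : Inv σ P := by
    rintro _ ⟨a, ha, rfl⟩
    exact ⟨restrict σ D hDi a, (characteristic_iff_comap_eq.mp (H1.pCore_characteristic p ↥D)
      (restrict σ D hDi)).ge ha, rfl⟩
  have hP : P = ⊥ := R.normal_p_bot hI P ((H1.isPGroup_pCore p ↥D).map _) hPi
  have hKbot : K = ⊥ := by
    rw [← le_bot_iff, ← hP]
    intro x hx
    haveI : (K.subgroupOf D).Normal := (normal_subgroupOf_iff_le_normalizer hKD).mpr hKn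
    exact ⟨⟨x, hKD hx⟩, H1.le_pCore (N := K.subgroupOf D) (hKp.comap_of_injective D.subtype D.subtype_injective)
      (mem_subgroupOf.mpr hx), rfl⟩
  apply hno
  intro x
  obtain ⟨j, hj⟩ := hKx x ((disp_disp R.hr R.hσ R.hcop (inv_top σ)).ge x.2)
  rw [hKbot, mem_bot] at hj
  exact ⟨j, Subtype.ext (by simpa using hj)⟩

/-- A fixed normal invariant subgroup is central. -/
theorem le_center_of_fixed (hgen : disp σ (⊤ : Subgroup G) = ⊤) (N : Subgroup G) [hN : N.Normal]
    (hfix : ∀ x ∈ N, σ x = x) : N ≤ center G := by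
  intro x hx
  rw [mem_center_iff]
  intro g
  have hle : disp σ (⊤ : Subgroup G) ≤ centralizer ({x} : Set G) := by
    rw [disp, Subgroup.closure_le]
    rintro _ ⟨h, -, rfl⟩
    rw [SetLike.mem_coe, mem_centralizer_singleton_iff]
    have h1 : σ (h⁻¹ * x * h) = h⁻¹ * x * h := hfix _ (by simpa using hN.conj_mem x hx h⁻¹)
    rw [map_mul, map_mul, map_inv, hfix x hx] at h1
    calc σ h * h⁻¹ * x = σ h * (h⁻¹ * x * h) * h⁻¹ := by group
      _ = σ h * ((σ h)⁻¹ * x * σ h) * h⁻¹ := by rw [h1]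
      _ = x * (σ h * h⁻¹) := by group
  exact mem_centralizer_singleton_iff.mp (hle (hgen.ge (mem_top g)))

/-- All odd invariant `q`-subgroups, `q ≠ p`, are fixed. -/
theorem Rep.odd_fixed (R : Rep σ r ρ T) {q : ℕ} (hq : q.Prime) (hq2 : q ≠ 2) (hqp : q ≠ p)
    {Q : Subgroup G} (hQ : IsPGroup q Q) (hinv : Inv σ Q) {x : G} (hx : x ∈ Q) : σ x = x := by
  by_contra hne
  exact hq2 (R.fermat hq (Ne.symm hqp) hQ hinv ⟨x, hx, hne⟩).1

/-- A moved invariant Sylow subgroup for a prime other than `p`. -/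
theorem exists_moved_sylow (R : Rep σ r ρ T) (hI : Irred ρ T)
    (hgen : disp σ (⊤ : Subgroup G) = ⊤) (hno : ¬ IsPGroup 2 G) :
    ∃ q : ℕ, q.Prime ∧ q ≠ p ∧ ∃ Q : Sylow q G, Inv σ (Q : Subgroup G) ∧
      ∃ x ∈ (Q : Subgroup G), σ x ≠ x := by
  by_contra hall
  push Not at hall
  haveI : Fact r.Prime := ⟨R.hr⟩
  obtain ⟨P, hP⟩ := H12.RComp.exists_inv_sylow (op_iff R.hσ R.hcop) p
  have hC : ∀ q : ℕ, q.Prime → q ≠ p → ∃ Q : Sylow q G, (Q : Subgroup G) ≤ fixed σ := by
    intro q hq hqp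
    haveI : Fact q.Prime := ⟨hq⟩
    obtain ⟨Q, hQ⟩ := H12.RComp.exists_inv_sylow (op_iff R.hσ R.hcop) q
    exact ⟨Q, fun x hx => hall q hq hqp Q hQ x hx⟩
  -- an eigenvector fixed by `P`
  let W : Submodule k V := ⨅ x : (P : Subgroup G), LinearMap.ker (ρ x - 1)
  have hW : ∀ w, w ∈ W ↔ ∀ x ∈ (P : Subgroup G), ρ x w = w := fun w => by
    simp [W, Submodule.mem_iInf, sub_eq_zero]
  obtain ⟨v₀, hv₀, hv₀f⟩ := H35.exists_fixed_vector (F := k) P.2 (ρ.comp (P : Subgroup G).subtype)
  haveI : Nontrivial W := Submodule.nontrivial_iff_ne_bot.mpr fun h => hv₀ (by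
    have := (hW v₀).mpr fun x hx => hv₀f ⟨x, hx⟩
    rwa [h, Submodule.mem_bot] at this)
  have hTW : ∀ w ∈ W, T w ∈ W := by
    intro w hw
    rw [hW] at hw ⊢
    intro x hx
    have h := LinearMap.congr_fun (R.comm (σ.symm x)) w
    rw [MulEquiv.apply_symm_apply, Module.End.mul_apply, Module.End.mul_apply,
      hw _ (R.inv_pow_mem hP hx)] at h
    exact h.symm
  obtain ⟨l, hl⟩ := Module.End.exists_eigenvalue (T.restrict hTW : Module.End k W)
  obtain ⟨v, hv, hv0⟩ := Submodule.exists_mem_ne_zero_of_ne_bot hl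
  rw [Module.End.mem_eigenspace_iff] at hv
  have hTv : T (v : V) = l • (v : V) := congrArg Subtype.val hv
  let L : Submodule k V := Submodule.span k (Set.range fun g : G => ρ g (v : V))
  have horb : ∀ g : G, ∃ c : G, σ c = c ∧ ρ g (v : V) = ρ c (v : V) := by
    intro g
    obtain ⟨c, hc, x, hx, rfl⟩ := exists_mul_sylow P (fixed σ) hC g
    exact ⟨c, hc, by rw [map_mul, Module.End.mul_apply, (hW _).mp v.2 x hx]⟩
  have hTL : ∀ w ∈ L, T w = l • w := by
    intro w hw
    refine LinearMap.eqOn_span (R := k) (f := T) (g := l • (1 : Module.End k V)) ?_ hw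
    rintro _ ⟨g, rfl⟩
    obtain ⟨c, hc, hgc⟩ := horb g
    show T (ρ g (v : V)) = l • ρ g (v : V)
    rw [hgc, ← Module.End.mul_apply, R.comm, hc, Module.End.mul_apply, hTv, map_smul]
  have hLρ : ∀ g, ∀ w ∈ L, ρ g w ∈ L := fun g w hw => by
    have h : L.map (ρ g) ≤ L := by
      rw [Submodule.map_span, Submodule.span_le]
      rintro _ ⟨_, ⟨h, rfl⟩, rfl⟩
      exact Submodule.subset_span ⟨g * h, by simp [map_mul]⟩
    exact h (Submodule.mem_map_of_mem hw)
  have hLtop : L = ⊤ := by
    refine (hI L hLρ fun w hw => hTL w hw ▸ L.smul_mem _ hw).resolve_left fun h => hv0 ?_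
    have : (v : V) ∈ L := Submodule.subset_span ⟨1, by simp⟩
    rw [h, Submodule.mem_bot] at this
    exact Subtype.ext this
  have hfix : ∀ g, σ g = g := fun g => R.fixed_of_commute (LinearMap.ext fun w => by
    rw [Module.End.mul_apply, Module.End.mul_apply, hTL _ (hLtop ▸ Submodule.mem_top),
      hTL w (hLtop ▸ Submodule.mem_top), map_smul])
  apply hno
  have hbot : (⊤ : Subgroup G) = ⊥ := by
    rw [← hgen, disp, eq_bot_iff, Subgroup.closure_le]
    rintro _ ⟨h, -, rfl⟩
    simp [hfix h]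
  intro x
  exact ⟨0, by simpa using (mem_bot.mp (hbot ▸ mem_top x))⟩

/-- The minimal configuration. -/
theorem exists_cfg (R : Rep σ r ρ T) (hI : Irred ρ T)
    (hsmall : ∀ H : Subgroup G, Inv σ H → H ≠ ⊤ → ∃ K : Subgroup G, K ≤ H ∧ IsPGroup p K ∧
      Inv σ K ∧ H ≤ normalizer (K : Set G) ∧ ∀ x ∈ disp σ H, ∃ j : ℕ, x ^ 2 ^ j ∈ K)
    (hgen : disp σ (⊤ : Subgroup G) = ⊤) (hno : ¬ IsPGroup 2 G)
    (hT : p ≠ 2 → NoMovedTwo σ) :
    ∃ (m : ℕ) (S U Z : Subgroup G), Cfg σ r m p S U Z := by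
  haveI : Fact r.Prime := ⟨R.hr⟩
  haveI : Fact (Nat.Prime 2) := ⟨Nat.prime_two⟩
  obtain ⟨q, hq, hqp, Q, hQi, x, hxQ, hxne⟩ := exists_moved_sylow (p := p) R hI hgen hno
  obtain ⟨rfl, ⟨m, hrm⟩, -⟩ := R.fermat hq (Ne.symm hqp) Q.2 hQi ⟨x, hxQ, hxne⟩
  have hp2 : p ≠ 2 := Ne.symm hqp
  have hT := hT hp2
  set S : Subgroup G := (Q : Subgroup G)
  set U := disp σ S with hU
  have hUi : Inv σ U := inv_disp hQi
  have hUS : U ≤ S := disp_le hQi
  have hU2 : IsPGroup 2 U := Q.2.to_le hUS
  have hUgen : disp σ U = U := disp_disp R.hr R.hσ R.hcop hQi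
  set Z := U ⊓ fixed σ with hZ
  have hmemZ : ∀ u : G, u ∈ Z ↔ u ∈ U ∧ σ u = u := fun u => Iff.rfl
  obtain ⟨-, hcenter, hsq, hcom, hcen, hsqZ⟩ := R.special hp2 hU2 hUi hUgen
  have hnormal : ∀ N : Subgroup G, N.Normal → Inv σ N → N ≠ ⊤ → N ≤ center G := by
    intro N hN hNi hNne
    refine @le_center_of_fixed G _ _ σ hgen N hN fun y hy => ?_
    obtain ⟨K, hKN, hKp, -, hKn, hKx⟩ := hsmall N hNi hNne
    -- `[N, σ]` is a `2`-group inside `O₂(N)`
    let P : Subgroup G := (Cfsg.pCore p ↥N).map N.subtype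
    haveI := hN
    haveI : P.Normal := by
      haveI := H1.pCore_characteristic p ↥N
      exact ConjAct.normal_of_characteristic_of_normal
    have hPi : Inv σ P := by
      rintro _ ⟨a, ha, rfl⟩
      exact ⟨restrict σ N hNi a, (characteristic_iff_comap_eq.mp (H1.pCore_characteristic p ↥N)
        (restrict σ N hNi)).ge ha, rfl⟩
    have hP : P = ⊥ := R.normal_p_bot hI P ((H1.isPGroup_pCore p ↥N).map _) hPi
    have hKbot : K = ⊥ := by
      rw [← le_bot_iff, ← hP]
      intro z hz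
      haveI : (K.subgroupOf N).Normal := (normal_subgroupOf_iff_le_normalizer hKN).mpr hKn
      exact ⟨⟨z, hKN hz⟩, H1.le_pCore (N := K.subgroupOf N) (hKp.comap_of_injective N.subtype N.subtype_injective)
        (mem_subgroupOf.mpr hz), rfl⟩
    have hD2 : IsPGroup 2 (disp σ N) := by
      intro z
      obtain ⟨j, hj⟩ := hKx z z.2
      rw [hKbot, mem_bot] at hj
      exact ⟨j, Subtype.ext (by simpa using hj)⟩
    let T₂ : Subgroup G := (Cfsg.pCore 2 ↥N).map N.subtype
    haveI : T₂.Normal := by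
      haveI := H1.pCore_characteristic 2 ↥N
      exact ConjAct.normal_of_characteristic_of_normal
    have hT₂i : Inv σ T₂ := by
      rintro _ ⟨a, ha, rfl⟩
      exact ⟨restrict σ N hNi a, (characteristic_iff_comap_eq.mp (H1.pCore_characteristic 2 ↥N)
        (restrict σ N hNi)).ge ha, rfl⟩
    have hle : disp σ N ≤ T₂ := by
      intro z hz
      haveI : ((disp σ N).subgroupOf N).Normal :=
        (normal_subgroupOf_iff_le_normalizer (disp_le hNi)).mpr le_normalizer_disp
      exact ⟨⟨z, disp_le hNi hz⟩,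
        H1.le_pCore (N := (disp σ N).subgroupOf N) (hD2.comap_of_injective N.subtype N.subtype_injective)
          (mem_subgroupOf.mpr hz), rfl⟩
    have hfixD : ∀ z ∈ disp σ N, σ z = z := fun z hz =>
      hT T₂ inferInstance ((H1.isPGroup_pCore 2 ↥N).map _) hT₂i z (hle hz)
    have hbot : disp σ N = ⊥ := by
      rw [← disp_disp R.hr R.hσ R.hcop hNi, disp, eq_bot_iff, Subgroup.closure_le]
      rintro _ ⟨h, hh, rfl⟩
      simp [hfixD h hh]
    have := subset_disp (σ := σ) hy
    rw [hbot, mem_bot, mul_inv_eq_one] at this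
    exact this
  have hSne : S ≠ ⊤ := fun h => hno fun g => by
    obtain ⟨j, hj⟩ := Q.2 ⟨g, h.ge (mem_top g)⟩
    exact ⟨j, by simpa using congrArg Subtype.val hj⟩
  have hperf : commutator G = ⊤ := by
    by_contra hne
    have hc : commutator G ≤ center G := hnormal _ inferInstance
      (H12.RComp.Inv.of_characteristic σ _) hne
    haveI : Group.IsNilpotent (G ⧸ center G) := by
      letI : CommGroup (G ⧸ center G) :=
        { (inferInstance : Group (G ⧸ center G)) with
          mul_comm := fun a b => by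
            obtain ⟨a, rfl⟩ := QuotientGroup.mk'_surjective (center G) a
            obtain ⟨b, rfl⟩ := QuotientGroup.mk'_surjective (center G) b
            rw [← map_mul, ← map_mul]
            refine QuotientGroup.eq.mpr (hc ?_)
            rw [show (a * b)⁻¹ * (b * a) = ⁅b⁻¹, a⁻¹⁆ by rw [commutatorElement_def]; group]
            exact commutator_mem_commutator (mem_top _) (mem_top _) }
      exact CommGroup.isNilpotent
    haveI : Group.IsNilpotent G := Group.of_quotient_center_nilpotent inferInstance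
    have hn : S.Normal := Sylow.normal_of_normalizerCondition Group.normalizerCondition_of_isNilpotent Q
    exact hxne (hT S hn Q.2 hQi x hxQ)
  have hzfix : ∀ z ∈ center G, σ z = z := by
    have hci : Inv σ (center G) := H12.RComp.Inv.of_characteristic σ _
    have htop : (fixed σ).subgroupOf (center G) = ⊤ := by
      refine top_of_sylow_le _ fun l hl => ?_
      haveI : Fact l.Prime := ⟨hl⟩
      obtain ⟨P, hP⟩ := H12.RComp.exists_inv_sylow_le (op_iff R.hσ R.hcop) l (center G) hci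
      refine ⟨P, fun z hz => ?_⟩
      rw [mem_subgroupOf, mem_fixed]
      have hzP : (z : G) ∈ (P : Subgroup (center G)).map (center G).subtype := mem_map_of_mem _ hz
      by_cases hlp : l = p
      · subst hlp
        haveI : ((P : Subgroup (center G)).map (center G).subtype).Normal :=
          ⟨fun a ha g => by
            have hac : a ∈ center G := map_subtype_le _ ha
            rwa [mem_center_iff.mp hac g, mul_inv_cancel_right]⟩
        have hb := R.normal_p_bot hI _ (P.2.map (center G).subtype) hP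
        rw [hb, mem_bot] at hzP
        rw [hzP, map_one]
      · exact R.abelian_fixed hl (Ne.symm hlp) (P.2.map (center G).subtype) hP
          (fun a ha b _ => (mem_center_iff.mp (map_subtype_le _ ha) b).symm) hzP
    intro z hz
    have : (⟨z, hz⟩ : center G) ∈ (fixed σ).subgroupOf (center G) := htop ▸ mem_top _
    exact this
  have hmoved : ∃ u ∈ U, σ u ≠ u := by
    by_contra hall
    push Not at hall
    have hbot : U = ⊥ := by
      rw [← hUgen, disp, eq_bot_iff, Subgroup.closure_le]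
      rintro _ ⟨h, hh, rfl⟩
      simp [hall h hh]
    have := subset_disp (σ := σ) hxQ
    rw [← hU, hbot, mem_bot, mul_inv_eq_one] at this
    exact hxne this
  have hm : 0 < m := by
    rcases Nat.eq_zero_or_pos m with rfl | h
    · exfalso
      rw [pow_zero] at hrm
      obtain ⟨j, hj⟩ := IsPGroup.iff_card.mp Q.2
      rcases Nat.eq_zero_or_pos j with rfl | hj0
      · rw [pow_zero, Subgroup.card_eq_one] at hj
        have : x = 1 := mem_bot.mp (hj ▸ hxQ)
        exact hxne (by rw [this, map_one])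
      · exact R.hcop (hrm ▸ (dvd_pow_self 2 hj0.ne').trans (hj ▸ S.card_subgroup_dvd_card))
    · exact h
  have hneg : ∀ w ∈ Z, w ∈ center G → w ≠ 1 → ∀ v : V, ρ w v = -v := fun w hw hwc hw1 =>
    R.neg_of_central hI hwc hw.2 (hsqZ w hw.1 hw.2) hw1
  refine ⟨m, S, U, Z,
    { hr := R.hr, hrm := hrm, m_pos := hm, hp := Fact.out, hp2 := hp2
      hpr := R.ne_char (p := p), hσ := R.hσ, hcop := R.hcop, perfect := hperf, gen := hgen
      normal_le := hnormal, center_fix := hzfix
      centre_two := ?_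
      pS := Q.2, invS := hQi, indexS := Q.not_dvd_index, defU := rfl, defZ := hmemZ
      exists_moved := hmoved
      sqU := fun u hu => ⟨mul_mem hu hu, hsq u hu⟩
      comU := fun a ha b hb =>
        ⟨U.mul_mem (U.mul_mem (U.mul_mem ha hb) (U.inv_mem ha)) (U.inv_mem hb), hcom a ha b hb⟩
      cenU := fun a ha z hz => hcen a ha z hz.1 hz.2
      sqZ := fun z hz => hsqZ z hz.1 hz.2
      odd_fixed := fun l hl hl2 hlp L hL hLi y hy => R.odd_fixed hl hl2 hlp hL hLi hy
      small := hsmall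
      centre_U := fun u hu h => ⟨hu, (hcenter ⟨u, hu⟩).mp (mem_center_iff.mpr fun b =>
        Subtype.ext (h b b.2).symm)⟩
      blocks := ?_ }⟩
  · classical
    rcases (em (∃ w, w ∈ Z ⊓ center G ∧ w ≠ 1)) with ⟨w₀, hw₀, hw₀1⟩ | hall
    · refine (Nat.card_le_card_of_injective
        (fun y : ↥(Z ⊓ center G) => decide ((y : G) = 1)) fun a b hab => Subtype.ext ?_).trans
        (le_of_eq (by simp [Nat.card_eq_fintype_card]))
      simp only [decide_eq_decide] at hab
      by_cases ha : (a : G) = 1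
      · rw [ha, hab.mp ha]
      · refine R.inj (LinearMap.ext fun v => ?_)
        rw [hneg _ a.2.1 a.2.2 ha, hneg _ b.2.1 b.2.2 fun hb => ha (hab.mpr hb)]
    · push Not at hall
      have : Subsingleton ↥(Z ⊓ center G) :=
        ⟨fun a b => Subtype.ext ((hall a a.2).trans (hall b b.2).symm)⟩
      have h1 := (Nat.card_eq_one_iff_unique (α := ↥(Z ⊓ center G))).mpr ⟨this, ⟨1⟩⟩
      omega
  · intro z hz hz1
    obtain ⟨Z₁, R₀, h1, h2, h3, h4, h5, h6⟩ :=
      R.blocks hp2 hU2 hUi hUgen hmemZ hz hz1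
    refine ⟨Z₁, R₀, h1, h2, h3, fun w hw hwc => ?_, h5, ?_⟩
    · by_contra hw1
      exact hw1 (h4 w hw (hneg w (h1 hw) hwc hw1))
    · rw [h6, hrm, Nat.add_sub_cancel]

end H85.Shult
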