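import Cfsg.Agent.H85.Shult.RepBlocks
import Cfsg.Agent.H85.Shult.Irred
import Cfsg.Agent.H1.Cores

/-!
Reduction of the fixed-point theorem of Shult type to the minimal configuration `Cfg`: induction on
the group, composition series of the module, and the properties of a minimal counterexample.
-/

set_option autoImplicit false
set_option linter.style.haveILetI false
set_option linter.unusedSectionVars false

open Subgroup

namespace H85.Shult

open H12.RComp (restrict quot coe_restrict quot_mk)

universe u v

section Basic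

variable {G : Type*} [Group G] [Finite G]

/-- A subgroup containing a Sylow subgroup for each prime is everything. -/
theorem top_of_sylow_le (H : Subgroup G)
    (h : ∀ q : ℕ, q.Prime → ∃ P : Sylow q G, (P : Subgroup G) ≤ H) : H = ⊤ := by
  refine eq_top_of_card_eq H (Nat.dvd_antisymm H.card_subgroup_dvd_card ?_)
  rw [← Nat.factorization_le_iff_dvd Nat.card_pos.ne' Nat.card_pos.ne']
  intro q
  by_cases hq : q.Prime
  · haveI : Fact q.Prime := ⟨hq⟩
    obtain ⟨P, hP⟩ := h q hq
    have h1 : q ^ (Nat.card G).factorization q ∣ Nat.card H :=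
      P.card_eq_multiplicity ▸ card_dvd_of_le hP
    exact (hq.pow_dvd_iff_le_factorization Nat.card_pos.ne').mp h1
  · simp [Nat.factorization_eq_zero_of_not_prime _ hq]

/-- A subgroup containing a Sylow `q`-subgroup for all `q ≠ p` is transitive on the cosets of a
Sylow `p`-subgroup. -/
theorem exists_mul_sylow {p : ℕ} [Fact p.Prime] (P : Sylow p G) (C : Subgroup G)
    (h : ∀ q : ℕ, q.Prime → q ≠ p → ∃ Q : Sylow q G, (Q : Subgroup G) ≤ C) (g : G) :
    ∃ c ∈ C, ∃ x ∈ (P : Subgroup G), g = c * x := by
  classical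
  let o : Set (G ⧸ (P : Subgroup G)) := Set.range fun c : C => ((c : G) : G ⧸ (P : Subgroup G))
  have hcard : Nat.card o = (P : Subgroup G).relIndex C := by
    rw [Subgroup.relIndex, Subgroup.index_eq_card]
    refine (Nat.card_congr (Equiv.ofBijective
      (fun q => Quotient.liftOn' q (fun c : C => (⟨_, c, rfl⟩ : o)) ?_) ⟨?_, ?_⟩)).symm
    · intro a b hab
      rw [QuotientGroup.leftRel_apply, mem_subgroupOf] at hab
      exact Subtype.ext (QuotientGroup.eq.mpr (by simpa using hab))
    · intro a b
      induction a using Quotient.inductionOn' with | h a => ?_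
      induction b using Quotient.inductionOn' with | h b => ?_
      intro hab
      refine QuotientGroup.eq.mpr ?_
      rw [mem_subgroupOf]
      simpa using QuotientGroup.eq.mp (congrArg Subtype.val hab)
    · rintro ⟨_, c, rfl⟩
      exact ⟨Quotient.mk'' c, rfl⟩
  have hdvd : (P : Subgroup G).index ∣ (P : Subgroup G).relIndex C := by
    have hne : (P : Subgroup G).index ≠ 0 := Subgroup.FiniteIndex.index_ne_zero
    have hne' : (P : Subgroup G).relIndex C ≠ 0 := Subgroup.FiniteIndex.index_ne_zero
    rw [← Nat.factorization_le_iff_dvd hne hne']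
    intro q
    by_cases hq : q.Prime
    swap
    · simp [Nat.factorization_eq_zero_of_not_prime _ hq]
    by_cases hqp : q = p
    · subst hqp
      rw [Nat.factorization_eq_zero_of_not_dvd (Sylow.not_dvd_index P)]
      exact Nat.zero_le _
    · haveI : Fact q.Prime := ⟨hq⟩
      obtain ⟨Q, hQ⟩ := h q hq hqp
      have h1 : (P : Subgroup G).index.factorization q ≤ (Nat.card G).factorization q :=
        (Nat.factorization_le_iff_dvd hne Nat.card_pos.ne').mpr (P : Subgroup G).index_dvd_card q
      refine h1.trans ?_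
      have h2 : q ^ (Nat.card G).factorization q ∣
          Nat.card ((P : Subgroup G).subgroupOf C) * (P : Subgroup G).relIndex C := by
        rw [Subgroup.relIndex, Subgroup.card_mul_index, ← Q.card_eq_multiplicity]
        exact card_dvd_of_le hQ
      have h3 : (q ^ (Nat.card G).factorization q).Coprime
          (Nat.card ((P : Subgroup G).subgroupOf C)) := by
        obtain ⟨j, hj⟩ := IsPGroup.iff_card.mp
          (P.2.comap_of_injective C.subtype C.subtype_injective)
        rw [Subgroup.subgroupOf, hj]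
        exact Nat.Coprime.pow _ _ ((Nat.coprime_primes hq Fact.out).mpr hqp)
      exact (hq.pow_dvd_iff_le_factorization hne').mp (h3.dvd_of_dvd_mul_left h2)
  have huniv : o = Set.univ := by
    apply Set.eq_univ_of_forall
    have hle : Nat.card (G ⧸ (P : Subgroup G)) ≤ Nat.card o := by
      rw [hcard, ← Subgroup.index_eq_card]
      exact Nat.le_of_dvd (Nat.pos_of_ne_zero Subgroup.FiniteIndex.index_ne_zero) hdvd
    intro x
    haveI : Finite (G ⧸ (P : Subgroup G)) := inferInstance
    by_contra hx
    have hlt : o.ncard < (Set.univ : Set (G ⧸ (P : Subgroup G))).ncard :=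
      Set.ncard_lt_ncard ⟨Set.subset_univ _, fun h => hx (h (Set.mem_univ x))⟩ Set.finite_univ
    rw [← Nat.card_coe_set_eq, Set.ncard_univ] at hlt
    omega
  obtain ⟨c, hc⟩ : (g : G ⧸ (P : Subgroup G)) ∈ o := huniv ▸ Set.mem_univ _
  exact ⟨c, c.2, (c : G)⁻¹ * g, QuotientGroup.eq.mp hc, by group⟩

/-- Displacements of a subgroup as those of the restricted automorphism. -/
theorem exists_mem_disp_restrict {σ : MulAut G} {H : Subgroup G} (hH : Inv σ H) {x : G}
    (hx : x ∈ disp σ H) : ∃ y : H, y ∈ disp (restrict σ H hH) ⊤ ∧ (y : G) = x := by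
  have : disp σ H ≤ (disp (restrict σ H hH) ⊤).map H.subtype := by
    rw [show disp σ H = Subgroup.closure _ from rfl, Subgroup.closure_le]
    rintro _ ⟨h, hh, rfl⟩
    exact ⟨restrict σ H hH ⟨h, hh⟩ * (⟨h, hh⟩ : H)⁻¹, subset_disp (mem_top _), rfl⟩
  obtain ⟨y, hy, hyx⟩ := this hx
  exact ⟨y, hy, hyx⟩

end Basic

variable {k : Type v} [Field k] [IsAlgClosed k] {r p : ℕ} [Fact p.Prime] [CharP k p]

variable (k) in
/-- The irreducible case for groups of order at most `n`. -/
def CoreUpTo (r : ℕ) (n : ℕ) : Prop :=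
  ∀ (G : Type u) [Group G] [Finite G] (V : Type v) [AddCommGroup V] [Module k V]
    [FiniteDimensional k V] [Nontrivial V] (σ : MulAut G) (ρ : G →* Module.End k V)
    (T : Module.End k V), Nat.card G ≤ n → Rep σ r ρ T → Irred ρ T → IsPGroup 2 (disp σ ⊤)

/-- The composition series argument. -/
theorem exists_core_aux {n : ℕ} (HC : CoreUpTo.{u, v} k r n) {G : Type u} [Group G] [Finite G]
    (hn : Nat.card G ≤ n) (hr : r.Prime) (σ : MulAut G) (hσ : σ ^ r = 1)
    (hcop : ¬ r ∣ Nat.card G) :
    ∀ (d : ℕ) (V : Type v) [AddCommGroup V] [Module k V] [FiniteDimensional k V]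
      (ρ : G →* Module.End k V) (T : Module.End k V), Module.finrank k V ≤ d →
      T ^ r = 1 → (∀ v, T v = v → v = 0) → (∀ g, T * ρ g = ρ (σ g) * T) →
      ∃ K : Subgroup G, K.Normal ∧ Inv σ K ∧ (∀ x ∈ disp σ ⊤, ∃ j : ℕ, x ^ 2 ^ j ∈ K) ∧
        ∀ g ∈ K, ∃ j : ℕ, ρ g ^ p ^ j = 1 := by
  intro d
  induction d with
  | zero =>
    intro V _ _ _ ρ T hd _ _ _
    haveI : Subsingleton V := Module.finrank_zero_iff.mp (Nat.le_zero.mp hd)
    exact ⟨⊤, inferInstance, inv_top σ, fun x _ => ⟨0, mem_top _⟩,
      fun g _ => ⟨0, LinearMap.ext fun v => Subsingleton.elim _ _⟩⟩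
  | succ d ih =>
    intro V _ _ _ ρ T hd hT hfix hcomm
    rcases subsingleton_or_nontrivial V with hV | hV
    · exact ⟨⊤, inferInstance, inv_top σ, fun x _ => ⟨0, mem_top _⟩,
        fun g _ => ⟨0, LinearMap.ext fun v => Subsingleton.elim _ _⟩⟩
    by_cases hI : Irred ρ T
    · -- irreducible: factor out the kernel
      have hTinj : Function.Injective T := by
        refine Function.HasLeftInverse.injective ⟨⇑(T ^ (r - 1) : Module.End k V), fun v => ?_⟩
        rw [← Module.End.mul_apply, ← pow_succ, Nat.sub_add_cancel hr.one_le, hT]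
        rfl
      have hker : H12.RComp.Inv σ ρ.ker := by
        intro a ha
        rw [MonoidHom.mem_ker] at ha ⊢
        refine LinearMap.ext fun v => ?_
        obtain ⟨w, rfl⟩ := LinearMap.surjective_of_injective hTinj v
        rw [← Module.End.mul_apply, ← hcomm, ha, mul_one]
        rfl
      obtain ⟨f, hf, hfi⟩ : ∃ f : (G ⧸ ρ.ker) →* Module.End k V,
          (∀ a : G, f (QuotientGroup.mk' ρ.ker a) = ρ a) ∧ Function.Injective f :=
        ⟨QuotientGroup.lift ρ.ker ρ le_rfl, fun a => QuotientGroup.lift_mk' _ _ a, by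
          intro x y hxy
          obtain ⟨a, rfl⟩ := QuotientGroup.mk'_surjective ρ.ker x
          obtain ⟨b, rfl⟩ := QuotientGroup.mk'_surjective ρ.ker y
          rw [QuotientGroup.mk'_apply, QuotientGroup.mk'_apply, QuotientGroup.lift_mk',
            QuotientGroup.lift_mk'] at hxy
          refine QuotientGroup.eq.mpr ?_
          rw [MonoidHom.mem_ker, map_mul, ← hxy, ← map_mul, inv_mul_cancel, map_one]⟩
      haveI : Fact r.Prime := ⟨hr⟩
      have hop := (op_iff hσ hcop).quot ρ.ker hker
      have Rb : Rep (quot σ ρ.ker hker) r f T :=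
        { hr := hr, hσ := hop.1, hcop := hop.2, pow := hT, fix := hfix
          comm := fun b => by
            obtain ⟨a, rfl⟩ := QuotientGroup.mk'_surjective ρ.ker b
            rw [quot_mk, hf, hf]; exact hcomm a
          inj := hfi }
      have hIb : Irred f T := fun W h1 h2 => hI W (fun g v hv => hf g ▸ h1 _ v hv) h2
      have h2 := HC (G ⧸ ρ.ker) V (quot σ ρ.ker hker) f T
        ((Nat.le_of_dvd Nat.card_pos (Subgroup.card_quotient_dvd_card _)).trans hn) Rb hIb
      refine ⟨ρ.ker, inferInstance, hker, fun x hx => ?_, fun g hg => ⟨0, by simpa using hg⟩⟩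
      have hmem : QuotientGroup.mk' ρ.ker x ∈ disp (quot σ ρ.ker hker) ⊤ := by
        have : disp σ ⊤ ≤ (disp (quot σ ρ.ker hker) ⊤).comap (QuotientGroup.mk' ρ.ker) := by
          rw [show disp σ ⊤ = Subgroup.closure _ from rfl, Subgroup.closure_le]
          rintro _ ⟨h, -, rfl⟩
          rw [SetLike.mem_coe, mem_comap, map_mul, map_inv, ← quot_mk σ ρ.ker hker]
          exact subset_disp (mem_top _)
        exact this hx
      obtain ⟨j, hj⟩ := h2 ⟨_, hmem⟩
      refine ⟨j, (QuotientGroup.eq_one_iff _).mp ?_⟩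
      have := congrArg Subtype.val hj
      simpa using this
    · simp only [Irred, not_forall, exists_prop, not_or] at hI
      obtain ⟨W, hWρ, hWT, hW0, hWt⟩ := hI
      let ρW : G →* Module.End k W :=
        { toFun := fun g => (ρ g).restrict (hWρ g)
          map_one' := LinearMap.ext fun v => Subtype.ext (by
            show ρ 1 (v : V) = v; rw [map_one]; rfl)
          map_mul' := fun a b => LinearMap.ext fun v => Subtype.ext (by
            show ρ (a * b) (v : V) = ρ a (ρ b v); rw [map_mul]; rfl) }
      have hpowW : ∀ (f : Module.End k V) (hf : ∀ v ∈ W, f v ∈ W) (i : ℕ) (v : W),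
          (((f.restrict hf) ^ i) v : V) = (f ^ i) v := by
        intro f hf i
        induction i with
        | zero => intro v; rfl
        | succ i ihi =>
          intro v
          rw [pow_succ', pow_succ']
          show f (((f.restrict hf) ^ i) v : V) = f ((f ^ i) v)
          rw [ihi]
      obtain ⟨K₁, hK₁n, hK₁i, hK₁x, hK₁g⟩ := ih W ρW (T.restrict hWT)
        (by have := Submodule.finrank_lt hWt; omega)
        (LinearMap.ext fun v => Subtype.ext (by rw [hpowW, hT]; rfl))
        (fun v hv => Subtype.ext (hfix v (congrArg Subtype.val hv)))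
        (fun g => LinearMap.ext fun v => Subtype.ext (LinearMap.congr_fun (hcomm g) (v : V)))
      let ρQ : G →* Module.End k (V ⧸ W) :=
        { toFun := fun g => W.mapQ W (ρ g) (hWρ g)
          map_one' := Submodule.linearMap_qext W (LinearMap.ext fun v => by simp)
          map_mul' := fun a b => Submodule.linearMap_qext W (LinearMap.ext fun v => by simp) }
      have hmkT : ∀ (f : Module.End k V) (hf : W ≤ W.comap f) (i : ℕ) (v : V),
          ((W.mapQ W f hf) ^ i) (W.mkQ v) = W.mkQ ((f ^ i) v) := by
        intro f hf i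
        induction i with
        | zero => intro v; rfl
        | succ i ihi =>
          intro v
          rw [pow_succ', pow_succ', Module.End.mul_apply, Module.End.mul_apply, ihi]
          exact Submodule.mapQ_apply W W f _
      obtain ⟨K₂, hK₂n, hK₂i, hK₂x, hK₂g⟩ := ih (V ⧸ W) ρQ (W.mapQ W T hWT)
        (by
          have h1 := Submodule.finrank_quotient_add_finrank W
          haveI : Nontrivial W := Submodule.nontrivial_iff_ne_bot.mpr hW0
          have h2 : 0 < Module.finrank k W := Module.finrank_pos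
          omega)
        (Submodule.linearMap_qext W (LinearMap.ext fun v => by
          show ((W.mapQ W T hWT) ^ r) (W.mkQ v) = W.mkQ v
          rw [hmkT, hT]; rfl))
        (by
          intro q hq
          obtain ⟨v, rfl⟩ := Submodule.mkQ_surjective W q
          have h1 : T v - v ∈ W := (Submodule.Quotient.eq W).mp hq
          have hinj : Function.Injective (T.restrict hWT - 1 : Module.End k W) := by
            rw [← LinearMap.ker_eq_bot, LinearMap.ker_eq_bot']
            intro w hw
            exact Subtype.ext (hfix w (sub_eq_zero.mp (congrArg Subtype.val hw)))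
          obtain ⟨w, hw⟩ := LinearMap.surjective_of_injective hinj ⟨_, h1⟩
          have h2 : T (w : V) - w = T v - v := congrArg Subtype.val hw
          have h3 : v - (w : V) = 0 := hfix _ (by rw [map_sub]; linear_combination (norm := abel) -h2)
          exact (Submodule.Quotient.mk_eq_zero W).mpr ((sub_eq_zero.mp h3) ▸ w.2))
        (fun g => Submodule.linearMap_qext W (LinearMap.ext fun v =>
          congrArg W.mkQ (LinearMap.congr_fun (hcomm g) v)))
      haveI := hK₁n
      haveI := hK₂n
      refine ⟨K₁ ⊓ K₂, inferInstance, fun a ha => ⟨hK₁i a ha.1, hK₂i a ha.2⟩, fun x hx => ?_,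
        fun g hg => ?_⟩
      · obtain ⟨a, ha⟩ := hK₁x x hx
        obtain ⟨b, hb⟩ := hK₂x x hx
        refine ⟨a + b, ?_, ?_⟩
        · rw [pow_add, pow_mul]; exact pow_mem ha _
        · rw [pow_add, mul_comm, pow_mul]; exact pow_mem hb _
      · obtain ⟨a, ha⟩ := hK₁g g hg.1
        obtain ⟨b, hb⟩ := hK₂g g hg.2
        refine ⟨a + b + 1, ?_⟩
        set E := ρ g ^ p ^ (a + b) with hE
        have hEW : ∀ w ∈ W, E w = w := by
          intro w hw
          have h1 : ρW g ^ p ^ (a + b) = 1 := by rw [pow_add, pow_mul, ha, one_pow]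
          have h2 := congrArg Subtype.val (LinearMap.congr_fun h1 (⟨w, hw⟩ : W))
          exact ((hpowW (ρ g) (hWρ g) _ ⟨w, hw⟩).symm.trans h2)
        have hEQ : ∀ v, E v - v ∈ W := by
          intro v
          have h1 : ρQ g ^ p ^ (a + b) = 1 := by
            rw [pow_add, mul_comm, pow_mul, hb, one_pow]
          have h2 := LinearMap.congr_fun h1 (W.mkQ v)
          exact (Submodule.Quotient.eq W).mp ((hmkT (ρ g) (hWρ g) _ v).symm.trans h2)
        have hsq : (E - 1) ^ 2 = 0 := by
          refine LinearMap.ext fun v => ?_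
          rw [pow_two, Module.End.mul_apply, LinearMap.sub_apply, LinearMap.sub_apply,
            Module.End.one_apply, Module.End.one_apply, hEW _ (hEQ v), sub_self]
          rfl
        haveI : CharP (Module.End k V) p := charP_of_injective_algebraMap
          (FaithfulSMul.algebraMap_injective k (Module.End k V)) p
        rw [pow_succ, pow_mul, ← hE]
        have h3 : (E - 1) ^ p = 0 := pow_eq_zero_of_le (Fact.out : p.Prime).two_le hsq
        rw [sub_pow_char_of_commute p (Commute.one_right E), one_pow, sub_eq_zero] at h3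
        exact h3

/-- For a faithful module, `[G, σ]` is a `2`-group modulo a normal `p`-subgroup. -/
theorem exists_p_core {n : ℕ} (HC : CoreUpTo.{u, v} k r n) {G : Type u} [Group G] [Finite G]
    (hn : Nat.card G ≤ n) {V : Type v} [AddCommGroup V] [Module k V] [FiniteDimensional k V]
    {σ : MulAut G} {ρ : G →* Module.End k V} {T : Module.End k V} (R : Rep σ r ρ T) :
    ∃ K : Subgroup G, K.Normal ∧ Inv σ K ∧ IsPGroup p K ∧
      ∀ x ∈ disp σ ⊤, ∃ j : ℕ, x ^ 2 ^ j ∈ K := by
  obtain ⟨K, h1, h2, h3, h4⟩ := exists_core_aux (p := p) HC hn R.hr σ R.hσ R.hcop _ V ρ T le_rfl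
    R.pow R.fix R.comm
  refine ⟨K, h1, h2, fun g => ?_, h3⟩
  obtain ⟨j, hj⟩ := h4 g g.2
  exact ⟨j, Subtype.ext (R.inj (by rw [SubmonoidClass.coe_pow, map_pow, hj, Subgroup.coe_one, map_one]))⟩

/-- The same for a proper invariant subgroup. -/
theorem small_of_lt {n : ℕ} (HC : CoreUpTo.{u, v} k r n) {G : Type u} [Group G] [Finite G]
    {V : Type v} [AddCommGroup V] [Module k V] [FiniteDimensional k V]
    {σ : MulAut G} {ρ : G →* Module.End k V} {T : Module.End k V} (R : Rep σ r ρ T)
    (hn : Nat.card G ≤ n + 1) (H : Subgroup G) (hH : Inv σ H) (hne : H ≠ ⊤) :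
    ∃ K : Subgroup G, K ≤ H ∧ IsPGroup p K ∧ Inv σ K ∧ H ≤ normalizer (K : Set G) ∧
      ∀ x ∈ disp σ H, ∃ j : ℕ, x ^ 2 ^ j ∈ K := by
  have hlt : Nat.card H < Nat.card G :=
    lt_of_le_of_ne (Subgroup.card_le_card_group H) fun h => hne (eq_top_of_card_eq H h)
  obtain ⟨K, hKn, hKi, hKp, hKx⟩ := exists_p_core (p := p) HC (by omega) (R.sub H hH)
  refine ⟨K.map H.subtype, map_subtype_le K, hKp.map _, ?_, ?_, fun x hx => ?_⟩
  · rintro _ ⟨a, ha, rfl⟩
    exact ⟨restrict σ H hH a, hKi a ha, rfl⟩
  · intro g hg
    refine Subgroup.mem_normalizer_fintype ?_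
    rintro _ ⟨a, ha, rfl⟩
    exact ⟨⟨g, hg⟩ * a * (⟨g, hg⟩ : H)⁻¹, hKn.conj_mem a ha _, rfl⟩
  · obtain ⟨y, hy, rfl⟩ := exists_mem_disp_restrict hH hx
    obtain ⟨j, hj⟩ := hKx y hy
    exact ⟨j, y ^ 2 ^ j, hj, map_pow H.subtype y _⟩

end H85.Shult
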