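import Cfsg.Agent.H85.Shult.Setting
import Cfsg.Agent.H12.RComp.Basic
import Cfsg.Agent.H36.MinimalActing
import Cfsg.Agent.H6.SpecialAction
import Cfsg.Agent.H1.Shult.CyclicHH2
import Cfsg.Agent.H76.Basic
import Cfsg.Agent.H35.DerivedLinear

/-!
A fixed-point-free operator on a faithful module: invariant abelian `q`-subgroups are fixed, a moved
invariant `q`-subgroup forces `q = 2` and a Fermat prime, `[S, σ]` is special, and the radicals of
the hyperplanes of its centre have index `(r - 1) ^ 2`.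
-/

set_option autoImplicit false
set_option linter.style.haveILetI false
set_option linter.unusedSectionVars false

open Subgroup

namespace H85.Shult

open H12.RComp (restrict quot coe_restrict)

universe u v w

variable {G : Type u} [Group G] [Finite G]

/-! ### Coprime facts -/

theorem inv_top (σ : MulAut G) : Inv σ (⊤ : Subgroup G) := fun _ _ => trivial

theorem op_iff {σ : MulAut G} {r : ℕ} (hσ : σ ^ r = 1) (hcop : ¬ r ∣ Nat.card G) :
    H12.RComp.Op r σ := ⟨hσ, hcop⟩

/-- In an invariant subgroup, every element is a fixed one times an element of `[H, σ]`. -/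
theorem exists_fixed_mul {σ : MulAut G} {r : ℕ} (hr : r.Prime) (hσ : σ ^ r = 1)
    (hcop : ¬ r ∣ Nat.card G) {H : Subgroup G} (hH : Inv σ H) {g : G} (hg : g ∈ H) :
    ∃ c ∈ H, σ c = c ∧ ∃ d ∈ disp σ H, g = c * d := by
  haveI : Fact r.Prime := ⟨hr⟩
  have hd : g⁻¹ * σ g ∈ disp σ H := by
    have h := (mem_normalizer_iff.mp (le_normalizer_disp (σ := σ) (inv_mem hg)) _).mp
      (subset_disp hg)
    simpa [mul_assoc] using h
  obtain ⟨n, hn, hfix⟩ := H12.RComp.exists_fixed_lift hσ (inv_disp hH)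
    ((op_iff hσ hcop).not_dvd _) hd
  exact ⟨g * n, mul_mem hg (disp_le hH hn), hfix, n⁻¹, inv_mem hn, by group⟩

theorem disp_disp {σ : MulAut G} {r : ℕ} (hr : r.Prime) (hσ : σ ^ r = 1)
    (hcop : ¬ r ∣ Nat.card G) {H : Subgroup G} (hH : Inv σ H) :
    disp σ (disp σ H) = disp σ H := by
  refine le_antisymm (disp_le (inv_disp hH)) ?_
  unfold disp
  rw [closure_le]
  rintro _ ⟨g, hg, rfl⟩
  obtain ⟨c, hc, hfc, d, hd, rfl⟩ := exists_fixed_mul hr hσ hcop hH hg
  have hcd : c * d * c⁻¹ ∈ disp σ H :=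
    (mem_normalizer_iff.mp (le_normalizer_disp (σ := σ) hc) d).mp hd
  have e : σ (c * d) * (c * d)⁻¹ = σ (c * d * c⁻¹) * (c * d * c⁻¹)⁻¹ := by
    simp only [map_mul, map_inv, hfc]; group
  show σ (c * d) * (c * d)⁻¹ ∈ _
  rw [e]
  exact subset_disp hcd

/-- An automorphism fixing a generator fixes its powers. -/
theorem fixed_of_mem_zpowers {σ : MulAut G} {g : G} (hg : σ g = g) {a : MulAut G}
    (ha : a ∈ zpowers σ) : a g = g := by
  obtain ⟨n, rfl⟩ := ha
  show (σ ^ n) g = g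
  have key : ∀ n : ℕ, (σ ^ n) g = g := by
    intro n
    induction n with
    | zero => rfl
    | succ n ih => rw [pow_succ, MulAut.mul_apply, hg, ih]
  cases n with
  | ofNat n => simpa using key n
  | negSucc n =>
    rw [zpow_negSucc]
    exact MulEquiv.symm_apply_eq (σ ^ (n + 1)) |>.mpr (key (n + 1)).symm

/-! ### The representation -/

variable {k : Type v} [Field k] {V : Type w} [AddCommGroup V] [Module k V]

/-- A faithful module for `G⟨σ⟩` in which `σ` has no fixed vector. -/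
structure Rep (σ : MulAut G) (r : ℕ) (ρ : G →* Module.End k V) (T : Module.End k V) : Prop where
  hr : r.Prime
  hσ : σ ^ r = 1
  hcop : ¬ r ∣ Nat.card G
  pow : T ^ r = 1
  fix : ∀ v, T v = v → v = 0
  comm : ∀ g, T * ρ g = ρ (σ g) * T
  inj : Function.Injective ρ

variable {σ : MulAut G} {r p : ℕ} [Fact p.Prime] [CharP k p]
  {ρ : G →* Module.End k V} {T : Module.End k V}

theorem Rep.sub (R : Rep σ r ρ T) (H : Subgroup G) (hH : Inv σ H) :
    Rep (restrict σ H hH) r (ρ.comp H.subtype) T where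
  hr := R.hr
  hσ := ((op_iff R.hσ R.hcop).restrict H hH).1
  hcop := ((op_iff R.hσ R.hcop).restrict H hH).2
  pow := R.pow
  fix := R.fix
  comm h := R.comm h
  inj := R.inj.comp H.subtype_injective

theorem Rep.ne_char [Nontrivial V] (R : Rep σ r ρ T) : p ≠ r := by
  rintro rfl
  have hp : p.Prime := Fact.out
  have hinj : Function.Injective (T - 1 : Module.End k V) := by
    rw [← LinearMap.ker_eq_bot, LinearMap.ker_eq_bot']
    intro v hv
    exact R.fix v (sub_eq_zero.mp hv)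
  have h1 : (T - 1) ^ p = (0 : Module.End k V) := by
    haveI : Nontrivial (Module.End k V) := inferInstance
    haveI : CharP (Module.End k V) p := charP_of_injective_algebraMap
      (FaithfulSMul.algebraMap_injective k (Module.End k V)) p
    rw [sub_pow_char_of_commute p (Commute.one_right T), R.pow, one_pow, sub_self]
  obtain ⟨v, hv⟩ := exists_ne (0 : V)
  apply hv
  have h2 : Function.Injective ((T - 1 : Module.End k V) ^ p) := by
    rw [Module.End.coe_pow]; exact hinj.iterate p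
  exact h2 (by rw [h1]; rfl)

variable [FiniteDimensional k V]

/-- A moved invariant `q`-subgroup, `q ≠ p`, forces `q = 2`, a Fermat prime, and is nonabelian. -/
theorem Rep.fermat [Nontrivial V] (R : Rep σ r ρ T) {q : ℕ} (hq : q.Prime) (hqp : p ≠ q)
    {Q : Subgroup G} (hQ : IsPGroup q Q) (hinv : Inv σ Q) (hmov : ∃ x ∈ Q, σ x ≠ x) :
    q = 2 ∧ (∃ n : ℕ, r = 2 ^ n + 1) ∧ ∃ a ∈ Q, ∃ b ∈ Q, a * b ≠ b * a := by
  classical
  have hqr : q ≠ r := by
    rintro rfl
    obtain ⟨x, hx, hne⟩ := hmov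
    haveI : Fact q.Prime := ⟨hq⟩
    obtain ⟨j, hj⟩ := IsPGroup.iff_card.mp hQ
    refine R.hcop (dvd_trans ?_ Q.card_subgroup_dvd_card)
    rw [hj]
    rcases Nat.eq_zero_or_pos j with rfl | hj0
    · rw [pow_zero, Subgroup.card_eq_one] at hj
      rw [hj, mem_bot] at hx
      exact absurd (by rw [hx, map_one]) hne
    · exact dvd_pow_self q hj0.ne'
  obtain ⟨S, ⟨hSQ, hSinv, x, hx, hxne⟩, hSmin⟩ := wellFounded_lt.has_min
    {S : Subgroup G | S ≤ Q ∧ Inv σ S ∧ ∃ x ∈ S, σ x ≠ x} ⟨Q, le_rfl, hinv, hmov⟩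
  set θ := restrict σ S hSinv with hθ
  have hop := (op_iff R.hσ R.hcop).restrict S hSinv
  have hθr : ∀ a : S, (θ : S → S)^[r] a = a := by
    intro a
    have key : ∀ n : ℕ, (θ : S → S)^[n] a = (θ ^ n) a := by
      intro n
      induction n with
      | zero => rfl
      | succ n ih => rw [Function.iterate_succ_apply', ih, pow_succ', MulAut.mul_apply]
    rw [key, hop.1, MulAut.one_apply]
  have hmin : H36.MinAct.IsMin θ q r := by
    refine ⟨hQ.to_le hSQ, hq, R.hr, hqr, hθr, ⟨⟨x, hx⟩, fun h => hxne (congrArg Subtype.val h)⟩,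
      fun Y hY hYinv a ha => ?_⟩
    by_contra hne
    refine hSmin (Y.map S.subtype) ⟨(map_subtype_le Y).trans hSQ, ?_, a,
      mem_map_of_mem _ ha, fun h => hne (Subtype.ext h)⟩ ?_
    · rintro _ ⟨b, hb, rfl⟩
      exact ⟨θ b, hYinv b hb, rfl⟩
    · refine lt_of_le_of_ne (map_subtype_le Y) fun h => hY ?_
      apply map_injective S.subtype_injective
      rw [h, ← MonoidHom.range_eq_map, S.range_subtype]
  -- a finite module
  obtain ⟨s, hs⟩ := Module.finite_def.mp (inferInstance : Module.Finite k V)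
  let gens : Set V := Set.range fun t : G × Fin r × s => ρ t.1 ((T ^ (t.2.1 : ℕ)) t.2.2)
  let A : AddSubgroup V := AddSubgroup.closure gens
  have hpV : ∀ x : V, p • x = 0 := fun x => by
    rw [← Nat.cast_smul_eq_nsmul k, CharP.cast_eq_zero k p, zero_smul]
  haveI : AddGroup.FG A := (AddGroup.fg_iff_addSubgroup_fg A).2
    ⟨(Set.finite_range fun t : G × Fin r × s => ρ t.1 ((T ^ (t.2.1 : ℕ)) t.2.2)).toFinset,
      by simp [A, gens]⟩
  haveI : Finite A := AddCommGroup.finite_of_fg_isAddTorsion A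
    (fun x => isOfFinAddOrder_iff_nsmul_eq_zero.2
      ⟨p, (Fact.out : p.Prime).pos, Subtype.ext (by simpa using hpV x)⟩)
  have hρA : ∀ g, ∀ v ∈ A, ρ g v ∈ A := by
    intro g v hv
    induction hv using AddSubgroup.closure_induction with
    | mem y hy =>
      obtain ⟨⟨h, i, b⟩, rfl⟩ := hy
      exact AddSubgroup.subset_closure ⟨⟨g * h, i, b⟩, by simp [map_mul]⟩
    | zero => simp
    | add y z _ _ h1 h2 => rw [map_add]; exact A.add_mem h1 h2
    | neg y _ h1 => rw [map_neg]; exact A.neg_mem h1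
  have hTA : ∀ v ∈ A, T v ∈ A := by
    intro v hv
    induction hv using AddSubgroup.closure_induction with
    | mem y hy =>
      obtain ⟨⟨h, i, b⟩, rfl⟩ := hy
      refine AddSubgroup.subset_closure
        ⟨⟨σ h, ⟨((i : ℕ) + 1) % r, Nat.mod_lt _ R.hr.pos⟩, b⟩, ?_⟩
      show ρ (σ h) ((T ^ (((i : ℕ) + 1) % r)) (b : V)) = (T * ρ h) ((T ^ (i : ℕ)) (b : V))
      rw [R.comm h, ← pow_eq_pow_mod _ R.pow, pow_succ' T]
      rfl
    | zero => simp
    | add y z _ _ h1 h2 => rw [map_add]; exact A.add_mem h1 h2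
    | neg y _ h1 => rw [map_neg]; exact A.neg_mem h1
  let ρE : G →* AddMonoid.End A :=
    { toFun := fun g => AddMonoidHom.mk' (fun v => ⟨ρ g v, hρA g v v.2⟩) fun a b =>
        Subtype.ext (map_add (ρ g) _ _)
      map_one' := AddMonoidHom.ext fun v => Subtype.ext (by
        show ρ 1 (v : V) = v; rw [map_one]; rfl)
      map_mul' := fun g h => AddMonoidHom.ext fun v => Subtype.ext (by
        show ρ (g * h) (v : V) = ρ g (ρ h v); rw [map_mul]; rfl) }
  let u : AddMonoid.End A :=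
    AddMonoidHom.mk' (fun v => ⟨T v, hTA v v.2⟩) fun a b => Subtype.ext (map_add T _ _)
  have hu : ∀ (n : ℕ) (v : A), ((u ^ n) v : V) = (T ^ n) v := by
    intro n
    induction n with
    | zero => intro v; rfl
    | succ n ih =>
      intro v
      rw [pow_succ', pow_succ']
      show T ((u ^ n) v : V) = T ((T ^ n) v)
      rw [ih]
  have hinjE : Function.Injective ρE := by
    intro g h he
    apply R.inj
    refine LinearMap.ext_on (s := (s : Set V)) hs fun b hb => ?_
    have hbA : (b : V) ∈ A := AddSubgroup.subset_closure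
      ⟨⟨1, ⟨0, R.hr.pos⟩, ⟨b, hb⟩⟩, by simp⟩
    exact congrArg Subtype.val (DFunLike.congr_fun he (⟨b, hbA⟩ : A))
  obtain ⟨h2, hn, hc⟩ := hmin.fermat (A := A) (Fact.out : p.Prime) hqp (R.ne_char (p := p))
    (fun v => Subtype.ext (by simpa using hpV v)) (ρE.comp S.subtype)
    (hinjE.comp S.subtype_injective) u
    (AddMonoidHom.ext fun v => Subtype.ext ((hu r v).trans (by rw [R.pow]; rfl)))
    (fun v hv => Subtype.ext (R.fix v (congrArg Subtype.val hv)))
    (fun a => AddMonoidHom.ext fun v => Subtype.ext (LinearMap.congr_fun (R.comm a) (v : V)))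
  refine ⟨h2, hn, ?_⟩
  by_contra hall
  push Not at hall
  apply hc
  rw [_root_.commutator_def, commutator_eq_bot_iff_le_centralizer]
  intro a _
  rw [mem_centralizer_iff]
  exact fun b _ => Subtype.ext (hall b (hSQ b.2) a (hSQ a.2))

theorem Rep.abelian_fixed [Nontrivial V] (R : Rep σ r ρ T) {q : ℕ} (hq : q.Prime) (hqp : p ≠ q)
    {Q : Subgroup G} (hQ : IsPGroup q Q) (hinv : Inv σ Q)
    (hc : ∀ a ∈ Q, ∀ b ∈ Q, a * b = b * a) {x : G} (hx : x ∈ Q) : σ x = x := by
  by_contra hne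
  obtain ⟨-, -, a, ha, b, hb, hab⟩ := R.fermat hq hqp hQ hinv ⟨x, hx, hne⟩
  exact hab (hc a ha b hb)

/-- `[S, σ]` for a `2`-group is special with centre its fixed points. -/
theorem Rep.special [Nontrivial V] (R : Rep σ r ρ T) (hp2 : p ≠ 2) {Q : Subgroup G}
    (hQ : IsPGroup 2 Q) (hinv : Inv σ Q) (hgen : disp σ Q = Q) :
    Cfsg.IsSpecial 2 ↥Q ∧ (∀ u : Q, u ∈ center Q ↔ σ (u : G) = u) ∧
      (∀ u ∈ Q, σ (u * u) = u * u) ∧
      (∀ a ∈ Q, ∀ b ∈ Q, σ (a * b * a⁻¹ * b⁻¹) = a * b * a⁻¹ * b⁻¹) ∧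
      (∀ a ∈ Q, ∀ z ∈ Q, σ z = z → a * z = z * a) ∧
      (∀ z ∈ Q, σ z = z → z * z = 1) := by
  haveI : Fact (Nat.Prime 2) := ⟨Nat.prime_two⟩
  haveI : Fact r.Prime := ⟨R.hr⟩
  set τ := restrict σ Q hinv with hτ
  have hop := (op_iff R.hσ R.hcop).restrict Q hinv
  have hA : Nat.Coprime (Nat.card (zpowers τ)) 2 := by
    rw [Nat.card_zpowers]
    by_cases hr2 : r = 2
    · have hbot : ∀ x : Q, x = 1 := by
        intro x
        by_contra hx
        obtain ⟨j, hj⟩ := hQ x
        obtain ⟨i, -, hi⟩ := (Nat.dvd_prime_pow Nat.prime_two).mp (orderOf_dvd_of_pow_eq_one hj)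
        rcases Nat.eq_zero_or_pos i with rfl | hi0
        · exact hx (orderOf_eq_one_iff.mp (by simpa using hi))
        · refine R.hcop ?_
          rw [hr2]
          exact ((dvd_pow_self 2 hi0.ne').trans (hi ▸ dvd_rfl)).trans
            ((orderOf_dvd_natCard x).trans Q.card_subgroup_dvd_card)
      have : τ = 1 := MulEquiv.ext fun x => (hbot _).trans (hbot _).symm
      rw [this, orderOf_one]; exact Nat.coprime_one_left 2
    · exact Nat.Coprime.coprime_dvd_left (orderOf_dvd_of_pow_eq_one hop.1)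
        ((Nat.coprime_primes R.hr Nat.prime_two).mpr hr2)
  have hGA : closure {x : Q | ∃ g : Q, ∃ a ∈ zpowers τ, x = g⁻¹ * a g} = ⊤ := by
    rw [eq_top_iff]
    rintro ⟨x, hx⟩ -
    have hle : disp σ Q ≤ (closure {x : Q | ∃ g : Q, ∃ a ∈ zpowers τ, x = g⁻¹ * a g}).map
        Q.subtype := by
      unfold disp
      rw [closure_le]
      rintro _ ⟨h, hh, rfl⟩
      refine ⟨((⟨h, hh⟩⁻¹ : Q)⁻¹ * τ (⟨h, hh⟩⁻¹ : Q))⁻¹,
        inv_mem (subset_closure ⟨_, τ, mem_zpowers τ, rfl⟩), ?_⟩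
      show ((h⁻¹)⁻¹ * σ h⁻¹)⁻¹ = σ h * h⁻¹
      rw [map_inv]; group
    rw [hgen] at hle
    obtain ⟨y, hy, hye⟩ := hle hx
    rwa [show (⟨x, hx⟩ : Q) = y from Subtype.ext hye.symm]
  have hchar : ∀ H : Subgroup Q, H.Characteristic → IsMulCommutative H →
      ∀ a ∈ zpowers τ, ∀ h ∈ H, a h = h := by
    intro H hH hHc a ha h hh
    refine fixed_of_mem_zpowers (Subtype.ext ?_) ha
    refine R.abelian_fixed Nat.prime_two hp2 (hQ.to_le (map_subtype_le H)) ?_ ?_
      (mem_map_of_mem Q.subtype hh)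
    · rintro _ ⟨b, hb, rfl⟩
      refine ⟨τ b, ?_, rfl⟩
      exact (characteristic_iff_comap_eq.mp hH τ).ge hb
    · rintro _ ⟨b, hb, rfl⟩ _ ⟨c, hc, rfl⟩
      exact congrArg (fun t : H => ((t : Q) : G))
        (IsMulCommutative.is_comm.comm (⟨b, hb⟩ : H) ⟨c, hc⟩)
  obtain ⟨hsp, hcen⟩ := H6.special_of_coprime_action hQ (zpowers τ) hA hGA hchar
  have hZ : ∀ u : Q, u ∈ center Q ↔ σ (u : G) = u := fun u =>
    ⟨fun h => congrArg Subtype.val ((hcen u).mp h τ (mem_zpowers τ)),
      fun h => (hcen u).mpr fun a ha => fixed_of_mem_zpowers (Subtype.ext h) ha⟩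
  have hsq : ∀ u : Q, u * u ∈ center Q := fun u => by
    rw [← hsp.2.1, ← pow_two]
    exact H76.pow_mem_frattini hQ u
  have hcm : ∀ a b : Q, a * b * a⁻¹ * b⁻¹ ∈ center Q := fun a b => by
    rw [← hsp.2.2, ← commutatorElement_def]
    exact commutator_mem_commutator (mem_top a) (mem_top b)
  refine ⟨hsp, hZ, fun u hu => (hZ ⟨u * u, mul_mem hu hu⟩).mp (hsq ⟨u, hu⟩),
    fun a ha b hb => (hZ _).mp (hcm ⟨a, ha⟩ ⟨b, hb⟩),
    fun a ha z hz hf => congrArg Subtype.val (mem_center_iff.mp ((hZ ⟨z, hz⟩).mpr hf) ⟨a, ha⟩),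
    fun z hz hf => ?_⟩
  let E : Subgroup Q :=
    { carrier := {z | z ∈ center Q ∧ z * z = 1}
      one_mem' := ⟨one_mem _, one_mul 1⟩
      mul_mem' := fun {a b} ha hb => ⟨mul_mem ha.1 hb.1, by
        calc a * b * (a * b) = a * (b * a) * b := by group
          _ = a * (a * b) * b := by rw [mem_center_iff.mp ha.1 b]
          _ = (a * a) * (b * b) := by group
          _ = 1 := by rw [ha.2, hb.2, one_mul]⟩
      inv_mem' := fun {a} ha => ⟨inv_mem ha.1, by rw [← mul_inv_rev, ha.2, inv_one]⟩ }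
  have hE : commutator Q ≤ E := by
    rw [_root_.commutator_def, commutator_le]
    intro a _ b _
    rw [commutatorElement_def]
    refine ⟨hcm a b, ?_⟩
    set d := a * b * a⁻¹ * b⁻¹ with hd
    have h1 : (a * a) * b * (a * a)⁻¹ = d * d * b := by
      calc (a * a) * b * (a * a)⁻¹ = a * (a * b * a⁻¹) * a⁻¹ := by group
        _ = a * (d * b) * a⁻¹ := by rw [hd]; group
        _ = (a * d) * b * a⁻¹ := by group
        _ = (d * a) * b * a⁻¹ := by rw [mem_center_iff.mp (hcm a b) a]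
        _ = d * (d * b) := by rw [hd]; group
        _ = d * d * b := by group
    rw [← mem_center_iff.mp (hsq a) b, mul_inv_cancel_right] at h1
    exact right_eq_mul.mp h1
  have := hE (show (⟨z, hz⟩ : Q) ∈ commutator Q from hsp.2.2.symm ▸ (hZ ⟨z, hz⟩).mpr hf)
  exact congrArg Subtype.val this.2

end H85.Shult
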