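import Cfsg.Agent.H85.Shult.Rep

/-!
The blocks of `Z` in `U = [S, σ]`: a constituent on which `z ∈ Z` acts as `-1` gives a hyperplane
of `Z` avoiding `z` whose radical has index `(r - 1) ^ 2` in `U` (Hall–Higman for `U⟨σ⟩`).
-/

set_option autoImplicit false
set_option linter.style.haveILetI false
set_option linter.unusedSectionVars false

open Subgroup

namespace H85.Shult

open H12.RComp (restrict quot coe_restrict quot_mk)

universe u v w

variable {G : Type u} [Group G] [Finite G] {k : Type v} [Field k] [IsAlgClosed k]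
  {V : Type w} [AddCommGroup V] [Module k V] [FiniteDimensional k V]
  {σ : MulAut G} {r p : ℕ} [Fact p.Prime] [CharP k p]
  {ρ : G →* Module.End k V} {T : Module.End k V}

theorem two_ne_zero_of_char (hp2 : p ≠ 2) : (2 : k) ≠ 0 := by
  intro h
  have : ((2 : ℕ) : k) = 0 := by exact_mod_cast h
  rw [CharP.cast_eq_zero_iff k p] at this
  exact hp2 ((Nat.prime_dvd_prime_iff_eq Fact.out Nat.prime_two).mp this)

theorem Rep.blocks [Nontrivial V] (R : Rep σ r ρ T) (hp2 : p ≠ 2) {Q Z : Subgroup G}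
    (hQ : IsPGroup 2 Q) (hinv : Inv σ Q) (hgen : disp σ Q = Q)
    (hZ : ∀ u : G, u ∈ Z ↔ u ∈ Q ∧ σ u = u) {z : G} (hz : z ∈ Z) (hz1 : z ≠ 1) :
    ∃ Z₁ R₀ : Subgroup G, Z₁ ≤ Z ∧ z ∉ Z₁ ∧ Z₁.relIndex Z = 2 ∧
      (∀ w ∈ Z₁, (∀ v : V, ρ w v = -v) → w = 1) ∧
      (∀ u : G, u ∈ R₀ ↔ u ∈ Q ∧ ∀ v ∈ Q, u * v * u⁻¹ * v⁻¹ ∈ Z₁) ∧
      R₀.relIndex Q = (r - 1) ^ 2 := by
  classical
  haveI : Fact r.Prime := ⟨R.hr⟩
  obtain ⟨-, hcen, hsq, hcom, hcomm, hsqZ⟩ := R.special hp2 hQ hinv hgen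
  have h2 : (2 : k) ≠ 0 := two_ne_zero_of_char (p := p) hp2
  have hneg : ∀ v : V, v = -v → v = 0 := by
    intro v hv
    have : (2 : k) • v = 0 := by rw [two_smul]; exact eq_neg_iff_add_eq_zero.mp hv
    exact (smul_eq_zero.mp this).resolve_left h2
  have hρfix : ∀ {a : G}, σ a = a → T * ρ a = ρ a * T := fun {a} ha => by rw [R.comm, ha]
  -- the invariant subspaces
  let F : Set (Submodule k V) :=
    {N | N ≠ ⊥ ∧ (∀ a ∈ Q, ∀ v ∈ N, ρ a v ∈ N) ∧ (∀ v ∈ N, T v ∈ N) ∧ ∀ v ∈ N, ρ z v = -v}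
  have hFne : F.Nonempty := by
    obtain ⟨hzQ, hzf⟩ := (hZ z).mp hz
    refine ⟨LinearMap.ker (ρ z + 1), ?_, ?_, ?_, fun v hv => ?_⟩
    · intro h
      apply hz1
      apply R.inj
      rw [map_one]
      refine LinearMap.ext fun v => ?_
      have hm : ρ z v - v ∈ LinearMap.ker (ρ z + 1) := by
        rw [LinearMap.mem_ker, LinearMap.add_apply, map_sub, Module.End.one_apply,
          ← Module.End.mul_apply, ← map_mul, hsqZ z hzQ hzf, map_one, Module.End.one_apply]
        abel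
      rw [h, Submodule.mem_bot, sub_eq_zero] at hm
      exact hm
    · intro a ha v hv
      rw [LinearMap.mem_ker, LinearMap.add_apply, Module.End.one_apply] at hv ⊢
      have e : ρ z * ρ a = ρ a * ρ z := by rw [← map_mul, ← map_mul, hcomm a ha z hzQ hzf]
      rw [← Module.End.mul_apply, e, Module.End.mul_apply, ← map_add, hv, map_zero]
    · intro v hv
      rw [LinearMap.mem_ker, LinearMap.add_apply, Module.End.one_apply] at hv ⊢
      rw [← Module.End.mul_apply, ← hρfix hzf, Module.End.mul_apply, ← map_add, hv, map_zero]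
    · rw [LinearMap.mem_ker, LinearMap.add_apply, Module.End.one_apply] at hv
      exact eq_neg_of_add_eq_zero_left hv
  obtain ⟨N, ⟨hN0, hNQ, hNT, hNz⟩, hNmin⟩ := wellFounded_lt.has_min F hFne
  have hsub : ∀ Y : Submodule k V, Y ≤ N → (∀ a ∈ Q, ∀ v ∈ Y, ρ a v ∈ Y) →
      (∀ v ∈ Y, T v ∈ Y) → Y = ⊥ ∨ Y = N := by
    intro Y hY h1 h3
    by_cases hY0 : Y = ⊥
    · exact Or.inl hY0
    exact Or.inr (hY.eq_or_lt.resolve_right
      (hNmin Y ⟨hY0, h1, h3, fun v hv => hNz v (hY hv)⟩))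
  haveI : Nontrivial N := Submodule.nontrivial_iff_ne_bot.mpr hN0
  let ρN : Q →* Module.End k N :=
    { toFun := fun a => (ρ a).restrict (hNQ a a.2)
      map_one' := LinearMap.ext fun v => Subtype.ext (by
        show ρ (1 : G) (v : V) = v; rw [map_one]; rfl)
      map_mul' := fun a b => LinearMap.ext fun v => Subtype.ext (by
        show ρ ((a : G) * b) (v : V) = ρ a (ρ b v); rw [map_mul]; rfl) }
  let TN : Module.End k N := T.restrict hNT
  -- every element of `Z` is `1` or `-1` on `N`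
  have hpm : ∀ a ∈ Z, (∀ v ∈ N, ρ a v = v) ∨ ∀ v ∈ N, ρ a v = -v := by
    intro a ha
    obtain ⟨haQ, haf⟩ := (hZ a).mp ha
    let Y : Submodule k V := N ⊓ LinearMap.ker (ρ a - 1)
    have h1 : ∀ b ∈ Q, ∀ v ∈ Y, ρ b v ∈ Y := by
      intro b hb v hv
      refine ⟨hNQ b hb v hv.1, ?_⟩
      have h := hv.2
      rw [SetLike.mem_coe, LinearMap.mem_ker, LinearMap.sub_apply, Module.End.one_apply,
        sub_eq_zero] at h ⊢
      rw [← Module.End.mul_apply, ← map_mul, ← hcomm b hb a haQ haf, map_mul,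
        Module.End.mul_apply, h]
    have h3 : ∀ v ∈ Y, T v ∈ Y := by
      intro v hv
      refine ⟨hNT v hv.1, ?_⟩
      have h := hv.2
      rw [SetLike.mem_coe, LinearMap.mem_ker, LinearMap.sub_apply, Module.End.one_apply,
        sub_eq_zero] at h ⊢
      rw [← Module.End.mul_apply, ← hρfix haf, Module.End.mul_apply, h]
    rcases hsub Y inf_le_left h1 h3 with hY | hY
    · right
      intro v hv
      have hm : ρ a v + v ∈ Y := by
        refine ⟨add_mem (hNQ a haQ v hv) hv, ?_⟩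
        rw [SetLike.mem_coe, LinearMap.mem_ker, LinearMap.sub_apply, Module.End.one_apply, map_add,
          ← Module.End.mul_apply, ← map_mul, hsqZ a haQ haf, map_one, Module.End.one_apply]
        abel
      rw [hY, Submodule.mem_bot] at hm
      exact eq_neg_of_add_eq_zero_left hm
    · left
      intro v hv
      rw [← hY] at hv
      have h := hv.2
      rwa [SetLike.mem_coe, LinearMap.mem_ker, LinearMap.sub_apply, Module.End.one_apply,
        sub_eq_zero] at h
  let Z₁ : Subgroup G :=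
    { carrier := {a | a ∈ Z ∧ ∀ v ∈ N, ρ a v = v}
      one_mem' := ⟨one_mem Z, fun v _ => by rw [map_one]; rfl⟩
      mul_mem' := fun {a b} ha hb => ⟨mul_mem ha.1 hb.1, fun v hv => by
        rw [map_mul, Module.End.mul_apply, hb.2 v hv, ha.2 v hv]⟩
      inv_mem' := fun {a} ha => ⟨inv_mem ha.1, fun v hv => by
        conv_lhs => rw [← ha.2 v hv]
        rw [← Module.End.mul_apply, ← map_mul, inv_mul_cancel, map_one, Module.End.one_apply]⟩ }
  have hmemZ₁ : ∀ a, a ∈ Z₁ ↔ a ∈ Z ∧ ∀ v ∈ N, ρ a v = v := fun a => Iff.rfl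
  obtain ⟨v₀, hv₀N, hv₀⟩ := Submodule.exists_mem_ne_zero_of_ne_bot hN0
  have hzZ₁ : z ∉ Z₁ := fun h => hv₀ (hneg v₀ ((h.2 v₀ hv₀N).symm.trans (hNz v₀ hv₀N)))
  have hidx : Z₁.relIndex Z = 2 := by
    rw [relIndex_eq_two_iff_exists_notMem_and]
    refine ⟨z, hz, hzZ₁, fun a ha => ?_⟩
    rcases hpm a ha with h | h
    · exact Or.inr ⟨ha, h⟩
    · refine Or.inl ⟨mul_mem ha hz, fun v hv => ?_⟩
      rw [map_mul, Module.End.mul_apply, hNz v hv, map_neg, h v hv, neg_neg]
  -- the quotient acting on `N`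
  obtain ⟨ρb, hρb, hρbi⟩ : ∃ f : (Q ⧸ ρN.ker) →* Module.End k N,
      (∀ a : Q, f (QuotientGroup.mk' ρN.ker a) = ρN a) ∧ Function.Injective f :=
    ⟨QuotientGroup.lift ρN.ker ρN le_rfl, fun a => QuotientGroup.lift_mk' _ _ a, by
      intro x y hxy
      obtain ⟨a, rfl⟩ := QuotientGroup.mk'_surjective ρN.ker x
      obtain ⟨b, rfl⟩ := QuotientGroup.mk'_surjective ρN.ker y
      rw [QuotientGroup.mk'_apply, QuotientGroup.mk'_apply, QuotientGroup.lift_mk',
        QuotientGroup.lift_mk'] at hxy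
      refine QuotientGroup.eq.mpr ?_
      rw [MonoidHom.mem_ker, map_mul, ← hxy, ← map_mul, inv_mul_cancel, map_one]⟩
  set τ := restrict σ Q hinv with hτ
  have hcommN : ∀ a : Q, TN * ρN a = ρN (τ a) * TN := fun a =>
    LinearMap.ext fun v => Subtype.ext (LinearMap.congr_fun (R.comm (a : G)) (v : V))
  have hkerinv : H12.RComp.Inv τ ρN.ker := by
    intro a ha
    rw [MonoidHom.mem_ker] at ha ⊢
    have hT : Function.Surjective TN := by
      refine LinearMap.surjective_of_injective ?_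
      have hT' : Function.Injective T := by
        refine Function.HasLeftInverse.injective ⟨⇑(T ^ (r - 1) : Module.End k V), fun v => ?_⟩
        rw [← Module.End.mul_apply, ← pow_succ, Nat.sub_add_cancel R.hr.one_le, R.pow]
        rfl
      exact fun a b hab => Subtype.ext (hT' (congrArg Subtype.val hab))
    refine LinearMap.ext fun v => ?_
    obtain ⟨w, rfl⟩ := hT v
    rw [← Module.End.mul_apply, ← hcommN, ha, mul_one]
    rfl
  set θ := quot τ ρN.ker hkerinv with hθ
  have hop := (op_iff R.hσ R.hcop).restrict Q hinv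
  have hopb := hop.quot ρN.ker hkerinv
  have hTNpow : TN ^ r = 1 := by
    refine LinearMap.ext fun v => Subtype.ext ?_
    have : ∀ n : ℕ, ((TN ^ n) v : V) = (T ^ n) v := by
      intro n
      induction n with
      | zero => rfl
      | succ n ih => rw [pow_succ', pow_succ']; show T ((TN ^ n) v : V) = T ((T ^ n) v); rw [ih]
    rw [this, R.pow]; rfl
  have Rb : Rep θ r ρb TN :=
    { hr := R.hr
      hσ := hopb.1
      hcop := hopb.2
      pow := hTNpow
      fix := fun v hv => Subtype.ext (R.fix v (congrArg Subtype.val hv))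
      comm := fun b => by
        obtain ⟨a, rfl⟩ := QuotientGroup.mk'_surjective ρN.ker b
        rw [hθ, quot_mk, hρb, hρb]; exact hcommN a
      inj := hρbi }
  have hQb : IsPGroup 2 (Q ⧸ ρN.ker) := hQ.to_quotient _
  have hcenfix : ∀ c ∈ center (Q ⧸ ρN.ker), θ c = c := fun c hc =>
    Rb.abelian_fixed (p := p) Nat.prime_two hp2 (hQb.to_subgroup (center (Q ⧸ ρN.ker)))
      (H12.RComp.Inv.of_characteristic θ (center (Q ⧸ ρN.ker)))
      (fun a ha b _ => (mem_center_iff.mp ha b).symm) hc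
  have hscal : ∀ c ∈ center (Q ⧸ ρN.ker), ∃ l : k, ρb c = l • (1 : Module.End k N) := by
    intro c hc
    obtain ⟨l, hl⟩ := Module.End.exists_eigenvalue (ρb c)
    refine ⟨l, ?_⟩
    let E := Module.End.eigenspace (ρb c) l
    have hEQ : ∀ a : Q, ∀ v ∈ E, ρN a v ∈ E := by
      intro a v hv
      rw [Module.End.mem_eigenspace_iff] at hv ⊢
      rw [← hρb, ← Module.End.mul_apply, ← map_mul,
        ← mem_center_iff.mp hc (QuotientGroup.mk' ρN.ker a), map_mul, Module.End.mul_apply, hv,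
        map_smul]
    have hET : ∀ v ∈ E, TN v ∈ E := by
      intro v hv
      rw [Module.End.mem_eigenspace_iff] at hv ⊢
      have e : TN * ρb c = ρb c * TN := by rw [Rb.comm, hcenfix c hc]
      rw [← Module.End.mul_apply, ← e, Module.End.mul_apply, hv, map_smul]
    have hE : E.map N.subtype = ⊥ ∨ E.map N.subtype = N := by
      refine hsub _ (Submodule.map_subtype_le N E) ?_ ?_
      · rintro a ha _ ⟨w, hw, rfl⟩
        exact ⟨ρN ⟨a, ha⟩ w, hEQ ⟨a, ha⟩ w hw, rfl⟩
      · rintro _ ⟨w, hw, rfl⟩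
        exact ⟨TN w, hET w hw, rfl⟩
    have hE' : E = ⊤ := by
      rcases hE with h | h
      · exfalso
        apply hl
        apply Submodule.map_injective_of_injective N.subtype_injective
        rw [h, Submodule.map_bot]
      · apply Submodule.map_injective_of_injective N.subtype_injective
        rw [h, Submodule.map_subtype_top]
    refine LinearMap.ext fun v => ?_
    have : v ∈ E := hE' ▸ Submodule.mem_top
    rw [Module.End.mem_eigenspace_iff] at this
    simpa using this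
  -- the radical
  let R₀ : Subgroup G := ((center (Q ⧸ ρN.ker)).comap (QuotientGroup.mk' ρN.ker)).map Q.subtype
  have hR₀ : ∀ u : G, u ∈ R₀ ↔ u ∈ Q ∧ ∀ v ∈ Q, u * v * u⁻¹ * v⁻¹ ∈ Z₁ := by
    intro u
    have hiff : ∀ a b : Q, (QuotientGroup.mk' ρN.ker b * QuotientGroup.mk' ρN.ker a =
        QuotientGroup.mk' ρN.ker a * QuotientGroup.mk' ρN.ker b) ↔
        (a : G) * b * (a : G)⁻¹ * (b : G)⁻¹ ∈ Z₁ := by
      intro a b
      have hZab : (a : G) * b * (a : G)⁻¹ * (b : G)⁻¹ ∈ Z :=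
        (hZ _).mpr ⟨mul_mem (mul_mem (mul_mem a.2 b.2) (inv_mem a.2)) (inv_mem b.2),
          hcom _ a.2 _ b.2⟩
      have e : ∀ x : Q, x ∈ ρN.ker ↔ ∀ v ∈ N, ρ (x : G) v = v := fun x => by
        rw [MonoidHom.mem_ker]
        exact ⟨fun h v hv => congrArg Subtype.val (LinearMap.congr_fun h ⟨v, hv⟩),
          fun h => LinearMap.ext fun v => Subtype.ext (h v v.2)⟩
      constructor
      · intro h
        refine ⟨hZab, (e (a * b * a⁻¹ * b⁻¹)).mp ?_⟩
        rw [← QuotientGroup.eq_one_iff]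
        show QuotientGroup.mk' ρN.ker (a * b * a⁻¹ * b⁻¹) = 1
        rw [map_mul, map_mul, map_mul, map_inv, map_inv, ← h]
        group
      · intro h
        have h1 : QuotientGroup.mk' ρN.ker (a * b * a⁻¹ * b⁻¹) = 1 :=
          (QuotientGroup.eq_one_iff _).mpr ((e _).mpr h.2)
        rw [map_mul, map_mul, map_mul, map_inv, map_inv, mul_inv_eq_one,
          mul_inv_eq_iff_eq_mul] at h1
        exact h1.symm
    constructor
    · rintro ⟨a, ha, rfl⟩
      exact ⟨a.2, fun v hv => (hiff a ⟨v, hv⟩).mp (mem_center_iff.mp ha _)⟩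
    · rintro ⟨hu, h⟩
      refine ⟨⟨u, hu⟩, ?_, rfl⟩
      rw [SetLike.mem_coe, mem_comap, mem_center_iff]
      intro b
      obtain ⟨b, rfl⟩ := QuotientGroup.mk'_surjective ρN.ker b
      exact (hiff ⟨u, hu⟩ b).mpr (h b b.2)
  -- Hall–Higman
  have hnc : ∃ a : Q ⧸ ρN.ker, a ∉ center (Q ⧸ ρN.ker) := by
    by_contra hall
    push Not at hall
    have hle : ∀ a ∈ disp σ Q, ∀ v ∈ N, ρ a v = v := by
      intro a ha
      induction ha using Subgroup.closure_induction with
      | mem y hy =>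
        obtain ⟨h, hh, rfl⟩ := hy
        intro v hv
        have h1 : QuotientGroup.mk' ρN.ker (τ ⟨h, hh⟩ * (⟨h, hh⟩ : Q)⁻¹) = 1 := by
          rw [map_mul, map_inv, ← quot_mk τ ρN.ker hkerinv, hcenfix _ (hall _), mul_inv_cancel]
        exact congrArg Subtype.val (LinearMap.congr_fun
          ((QuotientGroup.eq_one_iff _).mp h1) (⟨v, hv⟩ : N))
      | one => intro v _; rw [map_one]; rfl
      | mul a b _ _ ha hb => intro v hv; rw [map_mul, Module.End.mul_apply, hb v hv, ha v hv]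
      | inv a _ ha =>
        intro v hv
        conv_lhs => rw [← ha v hv]
        rw [← Module.End.mul_apply, ← map_mul, inv_mul_cancel, map_one, Module.End.one_apply]
    rw [hgen] at hle
    exact hzZ₁ ⟨hz, hle z ((hZ z).mp hz).1⟩
  have hθit : ∀ (n : ℕ) (a : Q ⧸ ρN.ker), (θ : Q ⧸ ρN.ker → Q ⧸ ρN.ker)^[n] a = (θ ^ n) a := by
    intro n
    induction n with
    | zero => intro a; rfl
    | succ n ih => intro a; rw [Function.iterate_succ_apply', ih, pow_succ', MulAut.mul_apply]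
  have hfree : ∀ n : ℕ, 0 < n → n < r → ∀ a : Q ⧸ ρN.ker, a⁻¹ * (θ : Q ⧸ ρN.ker → Q ⧸ ρN.ker)^[n] a ∈ center (Q ⧸ ρN.ker) →
      a ∈ center (Q ⧸ ρN.ker) := by
    intro n hn0 hnr a ha
    rw [hθit] at ha
    have hcinv : H12.RComp.Inv θ (center (Q ⧸ ρN.ker)) := H12.RComp.Inv.of_characteristic θ (center (Q ⧸ ρN.ker))
    have hmul : ∀ j : ℕ, a⁻¹ * (θ ^ (n * j)) a ∈ center (Q ⧸ ρN.ker) := by
      intro j
      induction j with
      | zero => simp
      | succ j ih =>
        have e : a⁻¹ * (θ ^ (n * (j + 1))) a =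
            (a⁻¹ * (θ ^ n) a) * (θ ^ n) (a⁻¹ * (θ ^ (n * j)) a) := by
          rw [Nat.mul_succ, Nat.add_comm (n * j) n, pow_add, MulAut.mul_apply, map_mul, map_inv]
          group
        rw [e]
        exact mul_mem ha (H12.RComp.pow_apply_mem hcinv ih n)
    obtain ⟨j, hj⟩ : ∃ j, n * j % r = 1 := by
      have hco : n.Coprime r := ((R.hr.coprime_iff_not_dvd).mpr
        (Nat.not_dvd_of_pos_of_lt hn0 hnr)).symm
      obtain ⟨j, -, hj⟩ := Nat.exists_mul_mod_eq_one_of_coprime hco R.hr.one_lt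
      exact ⟨j, hj⟩
    have h1 : a⁻¹ * θ a ∈ center (Q ⧸ ρN.ker) := by
      have := hmul j
      rwa [pow_eq_pow_mod _ hopb.1, hj, pow_one] at this
    obtain ⟨c, hc, hcf⟩ := H12.RComp.exists_fixed_lift hopb.1 hcinv (hopb.not_dvd _) h1
    obtain ⟨y, hy, hyc⟩ := H12.RComp.exists_fixed_lift_quot hop ρN.ker hkerinv hcf
    have hyZ : QuotientGroup.mk' ρN.ker y ∈ center (Q ⧸ ρN.ker) := by
      rw [mem_center_iff]
      intro b
      obtain ⟨b, rfl⟩ := QuotientGroup.mk'_surjective ρN.ker b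
      rw [← map_mul, ← map_mul, show b * y = y * b from Subtype.ext
        (hcomm b b.2 y y.2 (congrArg Subtype.val hy))]
    have : a = QuotientGroup.mk' ρN.ker y * c⁻¹ := by rw [hyc, mul_inv_cancel_right]
    rw [this]
    exact mul_mem hyZ (inv_mem hc)
  have hrk : (r : k) ≠ 0 := fun h => R.ne_char (p := p)
    ((Nat.prime_dvd_prime_iff_eq Fact.out R.hr).mp ((CharP.cast_eq_zero_iff k p r).mp h))
  haveI : NeZero (r : k) := ⟨hrk⟩
  obtain ⟨η, hη⟩ := HasEnoughRootsOfUnity.exists_primitiveRoot k r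
  obtain ⟨-, hcard, -⟩ := H1.Shult.semiregularHH R.hr.pos
    (fun a b => by
      obtain ⟨a, rfl⟩ := QuotientGroup.mk'_surjective ρN.ker a
      obtain ⟨b, rfl⟩ := QuotientGroup.mk'_surjective ρN.ker b
      rw [mem_center_iff]
      intro x
      obtain ⟨x, rfl⟩ := QuotientGroup.mk'_surjective ρN.ker x
      rw [← map_inv, ← map_inv, ← map_mul, ← map_mul, ← map_mul, ← map_mul, ← map_mul]
      exact congrArg _ (Subtype.ext (hcomm x x.2 _ (SetLike.coe_mem _) (hcom _ a.2 _ b.2))))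
    hnc θ (fun a => by rw [hθit, hopb.1, MulAut.one_apply]) hcenfix hfree hrk hη ρb Rb.inj hscal TN
    hTNpow Rb.fix Rb.comm
  refine ⟨Z₁, R₀, fun a ha => ha.1, hzZ₁, hidx, fun w hw hwv => ?_, hR₀, ?_⟩
  · exact absurd (hneg v₀ ((hw.2 v₀ hv₀N).symm.trans (hwv v₀))) hv₀
  · rw [Subgroup.relIndex, Subgroup.subgroupOf,
      Subgroup.comap_map_eq_self_of_injective Q.subtype_injective,
      index_comap_of_surjective _ (QuotientGroup.mk'_surjective _), index_eq_card, hcard]

end H85.Shult
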