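import Cfsg.Agent.H85.Shult.TwoShape
import Cfsg.Agent.H41.Shult.TwoAxisBuild
import Cfsg.Agent.H10.Shult.TwoInvolution

/-!
Shult's fixed point theorem, several radicals: if the induced group fixes an odd character then it
has odd order; otherwise all odd characters are blocks and each is moved.
-/

set_option autoImplicit false
set_option linter.all false

open Subgroup

namespace H85.Shult.TwoCentral

/-- A lift of odd-inverting involution with square centralising a lift of the inverted element. -/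
theorem exists_lift {Γ A : Type*} [Group Γ] [Finite Γ] [Group A] (π : Γ →* A) {τ φ : A}
    (hτ : τ ^ 3 = 1) (hnorm : ∀ g, π g ∈ normalizer (zpowers τ : Set A))
    (hτr : τ ∈ π.range) (hφr : φ ∈ π.range) (hφ : φ * φ = 1) (hout : φ ∉ zpowers τ)
    (hinv : φ * τ * φ⁻¹ = τ⁻¹) :
    ∃ y t : Γ, (∃ n : ℕ, y ^ 2 ^ n = 1) ∧ π y ∉ zpowers τ ∧ π y * π y = 1 ∧ π t = τ ∧
      y * y * t = t * (y * y) := by
  classical
  haveI : Fact (Nat.Prime 3) := ⟨Nat.prime_three⟩
  haveI : Fact (Nat.Prime 2) := ⟨Nat.prime_two⟩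
  set L := (zpowers τ).comap π with hL
  haveI : L.Normal := ⟨fun l hl g => by
    show π (g * l * g⁻¹) ∈ zpowers τ
    rw [map_mul, map_mul, map_inv]
    exact (mem_normalizer_iff.mp (hnorm g) _).mp hl⟩
  obtain ⟨t₀, ht₀⟩ := hτr
  obtain ⟨y₀, hy₀⟩ := hφr
  -- a lift of `τ` of 3-power order
  obtain ⟨a, b, hb, hab⟩ := Nat.exists_eq_pow_mul_and_not_dvd (orderOf_pos t₀).ne' 3 (by norm_num)
  have hb3 : b % 3 ≠ 0 := fun h => hb (Nat.dvd_of_mod_eq_zero h)
  obtain ⟨e, he⟩ : ∃ e, b * e % 3 = 1 := by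
    rcases (show b % 3 = 1 ∨ b % 3 = 2 by omega) with h | h
    · exact ⟨1, by omega⟩
    · exact ⟨2, by omega⟩
  obtain ⟨t₁, ht₁⟩ : ∃ t, t = t₀ ^ (b * e) := ⟨_, rfl⟩
  have ht₁π : π t₁ = τ := by
    rw [ht₁, map_pow, ht₀, pow_eq_pow_mod _ hτ, he, pow_one]
  have ht₁L : t₁ ∈ L := by
    show π t₁ ∈ zpowers τ
    rw [ht₁π]; exact mem_zpowers τ
  have ht₁3 : (⟨t₁, ht₁L⟩ : L) ^ 3 ^ a = 1 := Subtype.ext (by
    show t₁ ^ 3 ^ a = 1
    rw [ht₁, ← pow_mul, show b * e * 3 ^ a = 3 ^ a * b * e by ring, pow_mul, ← hab,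
      pow_orderOf_eq_one, one_pow])
  have hT : IsPGroup 3 (zpowers (⟨t₁, ht₁L⟩ : L)) := by
    rintro ⟨_, n, rfl⟩
    refine ⟨a, Subtype.ext ?_⟩
    show ((⟨t₁, ht₁L⟩ : L) ^ n) ^ 3 ^ a = 1
    rw [← zpow_natCast, ← zpow_mul, mul_comm, zpow_mul, zpow_natCast, ht₁3, one_zpow]
  obtain ⟨P, hP⟩ := hT.exists_le_sylow
  set Q : Subgroup Γ := (P : Subgroup L).map L.subtype with hQ
  have ht₁Q : t₁ ∈ Q := ⟨⟨t₁, ht₁L⟩, hP (mem_zpowers _), rfl⟩
  have hQp : IsPGroup 3 Q := P.2.map _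
  -- an element inducing an involution and normalising `Q`
  obtain ⟨g, hg, l, hl, hgl⟩ : ∃ g ∈ normalizer (Q : Set Γ), ∃ l ∈ L, g * l = y₀ := by
    have h : y₀ ∈ normalizer (Q : Set Γ) ⊔ L := by
      rw [Sylow.normalizer_sup_eq_top P]; exact mem_top _
    exact mem_sup_of_normal_right.mp h
  have hlτ : π l ∈ zpowers τ := hl
  have hgout : π g ∉ zpowers τ := fun h => hout (by
    rw [← hy₀, ← hgl, map_mul]; exact mul_mem h hlτ)
  have hg2 : π g * π g = 1 := by
    obtain ⟨j, hj⟩ := mem_zpowers_iff.mp hlτ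
    have e1 : π g = φ * (τ ^ j)⁻¹ := by rw [← hy₀, ← hgl, map_mul, ← hj]; group
    have e2 : φ * (τ ^ j)⁻¹ * φ⁻¹ = τ ^ j := by
      rw [← zpow_neg, ← conj_zpow, hinv, inv_zpow, zpow_neg, inv_inv]
    have hφ' : φ⁻¹ = φ := inv_eq_of_mul_eq_one_right hφ
    rw [e1, ← mul_assoc]
    nth_rewrite 2 [← hφ']
    rw [e2, mul_inv_cancel]
  obtain ⟨s, o, ho, hgo⟩ := Nat.exists_eq_two_pow_mul_odd (orderOf_pos g).ne'
  obtain ⟨y, hy⟩ : ∃ y, y = g ^ o := ⟨_, rfl⟩
  have hπy : π y = π g := by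
    obtain ⟨i, hi⟩ := ho
    rw [hy, map_pow, hi, pow_succ, pow_mul, pow_two, hg2, one_pow, one_mul]
  have hyN : y ∈ normalizer (Q : Set Γ) := hy ▸ pow_mem hg o
  have hy2 : y ^ 2 ^ s = 1 := by rw [hy, ← pow_mul, mul_comm, ← hgo, pow_orderOf_eq_one]
  -- a fixed point of `y * y` among the lifts in `Q`
  let X := {x : Q // π x = τ}
  have hk : π (y * y) = 1 := by rw [map_mul, hπy, hg2]
  have hkN : y * y ∈ normalizer (Q : Set Γ) := mul_mem hyN hyN
  let f : Equiv.Perm X :=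
    { toFun := fun x => ⟨⟨y * y * x.1 * (y * y)⁻¹, (mem_normalizer_iff.mp hkN _).mp x.1.2⟩, by
        show π (y * y * x.1 * (y * y)⁻¹) = τ
        rw [map_mul, map_mul, map_inv, hk, inv_one, mul_one, one_mul]; exact x.2⟩
      invFun := fun x => ⟨⟨(y * y)⁻¹ * x.1 * (y * y), by
        have := (mem_normalizer_iff.mp (inv_mem hkN) _).mp x.1.2
        rwa [inv_inv] at this⟩, by
        show π ((y * y)⁻¹ * x.1 * (y * y)) = τ
        rw [map_mul, map_mul, map_inv, hk, inv_one, mul_one, one_mul]; exact x.2⟩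
      left_inv := fun x => Subtype.ext (Subtype.ext (by
        show (y * y)⁻¹ * (y * y * x.1 * (y * y)⁻¹) * (y * y) = x.1; group))
      right_inv := fun x => Subtype.ext (Subtype.ext (by
        show y * y * ((y * y)⁻¹ * x.1 * (y * y)) * (y * y)⁻¹ = x.1; group)) }
  haveI : Fintype X := Fintype.ofFinite X
  have hf : ∀ (n : ℕ) (x : X), (((f ^ n) x).1 : Γ) = (y * y) ^ n * x.1 * ((y * y) ^ n)⁻¹ := by
    intro n
    induction n with
    | zero => intro x; simp
    | succ n ih =>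
      intro x
      rw [pow_succ', Equiv.Perm.mul_apply]
      show y * y * (((f ^ n) x).1 : Γ) * (y * y)⁻¹ = _
      rw [ih, pow_succ' (y * y), mul_inv_rev ((y * y))]
      simp only [mul_assoc]
  have hf1 : f ^ 2 ^ s = 1 := Equiv.ext fun x => Subtype.ext (Subtype.ext (by
    rw [hf, (show (y * y) ^ 2 ^ s = 1
      by rw [(Commute.refl y).mul_pow, hy2, one_mul])]
    simp))
  have hX : ¬ 2 ∣ Fintype.card X := by
    rw [← Nat.card_eq_fintype_card]
    let e : X ≃ (π.comp Q.subtype).ker :=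
      { toFun := fun x => ⟨(⟨t₁, ht₁Q⟩ : Q)⁻¹ * x.1, by
          rw [MonoidHom.mem_ker]
          show π (t₁⁻¹ * x.1) = 1
          rw [map_mul, map_inv, ht₁π, x.2, inv_mul_cancel]⟩
        invFun := fun x => ⟨(⟨t₁, ht₁Q⟩ : Q) * x.1, by
          show π (t₁ * x.1) = τ
          rw [map_mul, ht₁π, show π (x.1 : Γ) = 1 from MonoidHom.mem_ker.mp x.2, mul_one]⟩
        left_inv := fun x => Subtype.ext (mul_inv_cancel_left _ _)
        right_inv := fun x => Subtype.ext (inv_mul_cancel_left _ _) }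
    rw [Nat.card_congr e]
    intro h
    obtain ⟨n, hn⟩ := IsPGroup.iff_card.mp hQp
    have h2 := h.trans (card_subgroup_dvd_card (π.comp Q.subtype).ker)
    rw [hn] at h2
    exact absurd (Nat.prime_two.dvd_of_dvd_pow h2) (by norm_num)
  obtain ⟨x, hx⟩ := Equiv.Perm.exists_fixed_point_of_prime (p := 2) hX (σ := f) hf1
  refine ⟨y, x.1, ⟨s, hy2⟩, hπy ▸ hgout, hπy ▸ hg2, x.2, ?_⟩
  have h : y * y * x.1 * (y * y)⁻¹ = x.1 := congrArg (fun w : X => ((w.1 : Q) : Γ)) hx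
  exact mul_inv_eq_iff_eq_mul.mp h

open H41.Shult (Two act OddCh)
open H85.Shult (fixed Inv)
open H85.Shult.TwoShape (EvenCh ch_sq ch_eq)

variable {G : Type*} [Group G] [Finite G] {σ : MulAut G} {r m p : ℕ} {S U Z H₀ : Subgroup G}

variable (B : Two σ r m p S U Z H₀)
  (hI : ∀ x ∈ S, σ x = x → x * x ∈ center G → ∃ z ∈ Z, z⁻¹ * x ∈ center G)
include B

omit hI in
/-- `S` is a Sylow subgroup of the normaliser of `U`. -/
theorem sylN : H41.Shult.IsSylTwo (normalizer (U : Set G)) S := by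
  obtain ⟨P, hPi, hle, hP⟩ := H41.Shult.exists_inv_syl_ge B.cfg.hr B.cfg.hσ B.cfg.hcop
    B.cfg.invNormU B.cfg.invS B.cfg.S_le_normU B.cfg.pS
  rwa [eq_of_le_of_card_ge hle (B.sylG.card_le le_top hP.2.1)]

include hI in
/-- A fixed 2-element of the normaliser of `U`, an involution modulo the centre, is in `Z` modulo
the centre. -/
theorem mem_Z_mod {x : G} (hx : σ x = x) (hxN : x ∈ normalizer (U : Set G)) {n : ℕ}
    (hn : x ^ 2 ^ n = 1) (hx2 : x * x ∈ center G) : ∃ z ∈ Z, z⁻¹ * x ∈ center G := by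
  haveI hN : (center G).Normal := inferInstance
  obtain ⟨c, hc, hσc, hle⟩ := H10.Shult.Rank.exists_fixed_conj_le B.cfg.hr B.cfg.hσ B.cfg.hcop
    B.cfg.invNormU B.cfg.invS (sylN B) (H10.Shult.Rank.inv_zpowers hx) (zpowers_le.mpr hxN)
    (H10.Shult.TwoInv.isPGroup_zpowers hn)
  have hcx : c * x * c⁻¹ ∈ S := hle ⟨x, mem_zpowers x, rfl⟩
  obtain ⟨z, hz, hzc⟩ := hI _ hcx (by rw [map_mul, map_mul, map_inv, hσc, hx]) (by
    rw [show c * x * c⁻¹ * (c * x * c⁻¹) = c * (x * x) * c⁻¹ by group]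
    exact hN.conj_mem _ hx2 c)
  refine ⟨c⁻¹ * z * c, B.cfg.mem_Z ?_ (by rw [map_mul, map_mul, map_inv, hσc, B.fixZ hz]), ?_⟩
  · have := (mem_normalizer_iff.mp (inv_mem hc) z).mp (B.hZU hz)
    rwa [inv_inv] at this
  · have := hN.conj_mem _ hzc c⁻¹
    simpa [mul_assoc] using this

include hI in
/-- A fixed 2-element commuting with an element moving all of `Z` modulo the centre is central. -/
theorem mem_center_of_comm {k t : G} (hk : σ k = k) (hkN : k ∈ normalizer (U : Set G)) {n : ℕ}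
    (hn : k ^ 2 ^ n = 1) (hkt : k * t = t * k)
    (hfp : ∀ z ∈ Z, t * z * t⁻¹ * z⁻¹ ∈ center G → z ∈ center G) : k ∈ center G := by
  have key : ∀ (i : ℕ) (x : G), σ x = x → x ∈ normalizer (U : Set G) → x ^ 2 ^ i = 1 →
      x * t = t * x → x ∈ center G := by
    intro i
    induction i with
    | zero =>
      intro x _ _ h _
      rw [pow_zero, pow_one] at h
      rw [h]; exact one_mem _
    | succ i ih =>
      intro x hx hxN h hxt
      have hx2 : x * x ∈ center G := ih _ (by rw [map_mul, hx]) (mul_mem hxN hxN)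
        (by rw [← pow_two, ← pow_mul, ← pow_succ']; exact h)
        (by rw [mul_assoc, hxt, ← mul_assoc, hxt, mul_assoc])
      obtain ⟨z, hz, hzc⟩ := mem_Z_mod B hI hx hxN h hx2
      have h1 : t * z * t⁻¹ * z⁻¹ ∈ center G := by
        obtain ⟨d, hd⟩ : ∃ d, d = z⁻¹ * x := ⟨_, rfl⟩
        rw [← hd] at hzc
        have e : z = x * d⁻¹ := by rw [hd]; group
        rw [e, show t * (x * d⁻¹) * t⁻¹ * (x * d⁻¹)⁻¹ = t * x * (d⁻¹ * t⁻¹ * d) * x⁻¹ by group,
          ← mem_center_iff.mp (inv_mem hzc) t⁻¹, mul_assoc t⁻¹, inv_mul_cancel, mul_one, ← hxt,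
          mul_inv_cancel_right, mul_inv_cancel]
        exact one_mem _
      have := mul_mem (hfp z hz h1) hzc
      rwa [mul_inv_cancel_left] at this
  exact key n k hk hkN hn hkt

omit hI

theorem exists_even_avoid {ε₀ : (Z.subgroupOf U) →* ℤˣ} (hε₀ : OddCh U Z ε₀)
    (s : Finset ((Z.subgroupOf U) →* ℤˣ)) (hs : s.card < (Z ⊓ center G).relIndex Z) :
    ∃ χ, EvenCh U Z χ ∧ χ ∉ s := by
  classical
  obtain ⟨ε, hε, h⟩ := H85.Shult.TwoShape.exists_odd_avoid B (s.image fun χ => ε₀ * χ)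
    (lt_of_le_of_lt Finset.card_image_le hs)
  exact ⟨ε₀ * ε, H85.Shult.TwoShape.even_mul_odd B hε₀ hε, fun h' => h (Finset.mem_image.mpr
    ⟨_, h', by rw [← mul_assoc, ch_sq, one_mul]⟩)⟩

omit B [Finite G] in
theorem even_mul {χ η : (Z.subgroupOf U) →* ℤˣ} (h : EvenCh U Z χ) (h' : EvenCh U Z η) :
    EvenCh U Z (χ * η) := fun z hz => by rw [MonoidHom.mul_apply, h z hz, h' z hz, one_mul]

/-- An involution fixes a nontrivial even character. -/
theorem exists_fixed_even {ε₀ : (Z.subgroupOf U) →* ℤˣ} (hε₀ : OddCh U Z ε₀) {φ : MulAut U}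
    (hφ : φ ∈ act σ U) (h2 : φ * φ = 1) :
    ∃ χ, χ ≠ 1 ∧ EvenCh U Z χ ∧ B.pull φ hφ χ = χ := by
  obtain ⟨a, ha, has⟩ := exists_even_avoid B hε₀ {1}
    (by rw [Finset.card_singleton]; have := B.h4; omega)
  have ha1 : a ≠ 1 := fun e => has (by simp [e])
  by_cases h : B.pull φ hφ a = a
  · exact ⟨a, ha1, ha, h⟩
  refine ⟨a * B.pull φ hφ a, fun e => h (ch_eq e).symm,
    even_mul ha (H85.Shult.TwoShape.pull_even B hφ ha), ?_⟩
  rw [H85.Shult.TwoShape.pull_mul_ch B, ← B.pull_mul hφ hφ, B.pull_congr (mul_mem hφ hφ) (one_mem _) h2,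
    B.pull_one, mul_comm]

/-- An involution fixes two nontrivial even characters when there are at least eight. -/
theorem exists_fixed_even' {ε₀ : (Z.subgroupOf U) →* ℤˣ} (hε₀ : OddCh U Z ε₀)
    (h5 : 5 ≤ (Z ⊓ center G).relIndex Z) {φ : MulAut U}
    (hφ : φ ∈ act σ U) (h2 : φ * φ = 1) :
    ∃ χ η, χ ≠ 1 ∧ EvenCh U Z χ ∧ B.pull φ hφ χ = χ ∧ η ≠ 1 ∧ EvenCh U Z η ∧
      B.pull φ hφ η = η ∧ χ ≠ η := by
  classical
  obtain ⟨χ, hχ1, hχ, hχf⟩ := exists_fixed_even B hε₀ hφ h2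
  refine ⟨χ, ?_⟩
  by_contra hc
  push Not at hc
  have hone : ∀ a, EvenCh U Z a → B.pull φ hφ a = a → a = 1 ∨ a = χ := fun a ha haf =>
    or_iff_not_imp_left.mpr fun h1 => (hc a hχ1 hχ hχf h1 ha haf).symm
  have hmove : ∀ a, EvenCh U Z a → a ≠ 1 → a ≠ χ → B.pull φ hφ a = a * χ := by
    intro a ha h1 h3
    have hp := H85.Shult.TwoShape.pull_even B hφ ha
    rcases hone (a * B.pull φ hφ a) (even_mul ha hp) (by
        rw [H85.Shult.TwoShape.pull_mul_ch B, ← B.pull_mul hφ hφ,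
          B.pull_congr (mul_mem hφ hφ) (one_mem _) h2, B.pull_one, mul_comm]) with h | h
    · rcases hone a ha (ch_eq h).symm with e | e
      · exact absurd e h1
      · exact absurd e h3
    · rw [← h, ← mul_assoc, ch_sq, one_mul]
  obtain ⟨a, ha, has⟩ := exists_even_avoid B hε₀ {1, χ}
    (lt_of_le_of_lt Finset.card_le_two (by omega))
  simp only [Finset.mem_insert, Finset.mem_singleton, not_or] at has
  obtain ⟨b, hb, hbs⟩ := exists_even_avoid B hε₀ {1, χ, a, a * χ}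
    (lt_of_le_of_lt Finset.card_le_four (by omega))
  simp only [Finset.mem_insert, Finset.mem_singleton, not_or] at hbs
  have h3 := hmove (a * b) (even_mul ha hb) (fun e => hbs.2.2.1 (ch_eq e).symm) fun e =>
    hbs.2.2.2 (by rw [← e, ← mul_assoc, ch_sq, one_mul])
  rw [H85.Shult.TwoShape.pull_mul_ch B, hmove a ha has.1 has.2, hmove b hb hbs.1 hbs.2.1,
    mul_mul_mul_comm, ch_sq, mul_one] at h3
  exact hχ1 (mul_eq_left.mp h3.symm)

variable {D : Subgroup (MulAut U)} (hD : D ≤ act σ U) (hodd : Odd (Nat.card D))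
  (htr : ∀ a : U, (a : G) ∈ Z → (a : G) ∉ center G → ∀ b : U, (b : G) ∈ Z → (b : G) ∉ center G →
    ∃ φ ∈ D, ((φ a : U) : G)⁻¹ * b ∈ center G)
  {ε₀ : (Z.subgroupOf U) →* ℤˣ} (hε₀ : OddCh U Z ε₀)
  (hblk : ∀ ε, OddCh U Z ε → ε ≠ ε₀ → B.fd.Blk ε)
  (hfix : ∀ φ, ∀ hφ : φ ∈ act σ U, B.pull φ hφ ε₀ = ε₀)

include hI hD hodd htr hε₀ hblk hfix in
/-- No involution is induced when four characters are permuted. -/
theorem false_of_four (h4 : (Z ⊓ center G).relIndex Z = 4) {φ : MulAut U} (hφ : φ ∈ act σ U)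
    (h2 : φ * φ = 1) (hne : φ ≠ 1) : False := by
  classical
  obtain ⟨a, ha1, ha, haf⟩ := exists_fixed_even B hε₀ hφ h2
  -- an element of `D` moving `a`
  obtain ⟨τ, hτD, hτa⟩ : ∃ τ, ∃ hτ : τ ∈ D, B.pull τ (hD hτ) a ≠ a := by
    by_contra hc
    push Not at hc
    obtain ⟨c, hc', hcs⟩ := exists_even_avoid B hε₀ {1, a}
      (lt_of_le_of_lt Finset.card_le_two (by omega))
    simp only [Finset.mem_insert, Finset.mem_singleton, not_or] at hcs
    refine hcs.2 (H85.Shult.TwoShape.all_even B hD htr (P := fun χ => χ = a) ?_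
      ⟨a, ha1, ha, rfl⟩ hcs.1 hc')
    intro ψ hψ χ e
    rw [e]; exact hc ψ hψ
  have hτ := hD hτD
  obtain ⟨b, hb⟩ : ∃ b, b = B.pull τ hτ a := ⟨_, rfl⟩
  have hbe : EvenCh U Z b := hb ▸ H85.Shult.TwoShape.pull_even B hτ ha
  have hba : b ≠ a := hb ▸ hτa
  have hb1 : b ≠ 1 := by
    intro e
    apply ha1
    have := congrArg (B.pull τ⁻¹ (inv_mem hτ)) (hb.symm.trans e)
    rw [H85.Shult.TwoShape.pull_inv B hτ] at this
    rw [this]
    exact MonoidHom.ext fun z => rfl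
  -- the four even characters
  have hall : ∀ χ, EvenCh U Z χ → χ = 1 ∨ χ = a ∨ χ = b ∨ χ = a * b := by
    intro χ hχ
    haveI : Finite ((Z.subgroupOf U) →* ℤˣ) := Finite.of_injective _ DFunLike.coe_injective
    haveI : Fintype ((Z.subgroupOf U) →* ℤˣ) := Fintype.ofFinite _
    have hcard := H85.Shult.TwoShape.card_oddCh B
    rw [Nat.card_eq_fintype_card, Fintype.card_subtype, h4] at hcard
    set s : Finset ((Z.subgroupOf U) →* ℤˣ) := {1, a, b, a * b} with hs
    have hsc : s.card = 4 := Finset.card_eq_four.mpr ⟨1, a, b, a * b, Ne.symm ha1, Ne.symm hb1,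
      fun e => hba (ch_eq e.symm).symm, Ne.symm hba, fun e => hb1 (mul_eq_left.mp e.symm),
      fun e => ha1 (mul_eq_right.mp e.symm), rfl⟩
    have hse : ∀ x ∈ s, OddCh U Z (ε₀ * x) := by
      intro x hx
      simp only [hs, Finset.mem_insert, Finset.mem_singleton] at hx
      rcases hx with rfl | rfl | rfl | rfl
      · rw [mul_one]; exact hε₀
      · exact H85.Shult.TwoShape.odd_mul_even hε₀ ha
      · exact H85.Shult.TwoShape.odd_mul_even hε₀ hbe
      · exact H85.Shult.TwoShape.odd_mul_even hε₀ (even_mul ha hbe)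
    have heq := Finset.eq_of_subset_of_card_le
      (s := s.image fun x => ε₀ * x) (t := Finset.univ.filter fun ε => OddCh U Z ε)
      (fun x hx => by
        obtain ⟨y, hy, rfl⟩ := Finset.mem_image.mp hx
        exact Finset.mem_filter.mpr ⟨Finset.mem_univ _, hse y hy⟩)
      (by rw [hcard, Finset.card_image_of_injective _ (mul_right_injective ε₀), hsc])
    have : ε₀ * χ ∈ s.image fun x => ε₀ * x := heq ▸ Finset.mem_filter.mpr
      ⟨Finset.mem_univ _, H85.Shult.TwoShape.odd_mul_even hε₀ hχ⟩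
    obtain ⟨x, hx, e⟩ := Finset.mem_image.mp this
    rw [mul_left_cancel e] at hx
    simpa [hs] using hx
  -- fixing two of them is being trivial
  have hker : ∀ {ψ : MulAut U} (hψ : ψ ∈ act σ U), B.pull ψ hψ a = a → B.pull ψ hψ b = b →
      ψ = 1 := by
    intro ψ hψ h h'
    refine B.eq_one_of_trivial_mod hψ fun u => ?_
    by_contra hu
    obtain ⟨ε, he, heb, hout⟩ := B.exists_oblk (u := ψ u * u⁻¹) hu
    refine hout (B.stab hψ heb ?_ u)
    have e : ε = ε₀ * (ε₀ * ε) := by rw [← mul_assoc, ch_sq, one_mul]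
    conv_lhs => rw [e, H85.Shult.TwoShape.pull_mul_ch B, hfix ψ hψ]
    conv_rhs => rw [e]
    congr 1
    rcases hall _ (H85.Shult.TwoShape.even_mul_odd B hε₀ he) with e' | e' | e' | e' <;> rw [e']
    · exact MonoidHom.ext fun z => rfl
    · exact h
    · exact h'
    · rw [H85.Shult.TwoShape.pull_mul_ch B, h, h']
  have hinj : ∀ {ψ : MulAut U} (hψ : ψ ∈ act σ U) {x y : (Z.subgroupOf U) →* ℤˣ},
      B.pull ψ hψ x = B.pull ψ hψ y → x = y := by
    intro ψ hψ x y e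
    have := congrArg (B.pull _ (inv_mem hψ)) e
    rwa [H85.Shult.TwoShape.pull_inv B hψ, H85.Shult.TwoShape.pull_inv B hψ] at this
  have hp1 : ∀ {ψ : MulAut U} (hψ : ψ ∈ act σ U), B.pull ψ hψ 1 = 1 := fun hψ =>
    MonoidHom.ext fun z => rfl
  -- an element of odd order fixing a nontrivial character is trivial
  have hfp : ∀ {ψ : MulAut U} (hψ : ψ ∈ act σ U), Odd (orderOf ψ) →
      ∀ x, x ≠ 1 → EvenCh U Z x → B.pull ψ hψ x = x → ψ = 1 := by
    intro ψ hψ ho x hx1 hx hxf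
    suffices h : ψ * ψ = 1 by
      rw [← orderOf_eq_one_iff]
      rcases (Nat.dvd_prime Nat.prime_two).mp
        (orderOf_dvd_of_pow_eq_one (by rw [pow_two]; exact h : ψ ^ 2 = 1)) with e | e
      · exact e
      · rw [e] at ho; exact absurd ho (by decide)
    have hcyc : ∀ y, EvenCh U Z y → B.pull ψ hψ (B.pull ψ hψ y) = y := by
      intro y hy
      have hpy := H85.Shult.TwoShape.pull_even B hψ hy
      by_cases h1 : y = 1
      · rw [h1, hp1, hp1]
      by_cases h2 : y = x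
      · rw [h2, hxf, hxf]
      have c1 : B.pull ψ hψ y ≠ 1 := fun e => h1 (hinj hψ (e.trans (hp1 hψ).symm))
      have c2 : B.pull ψ hψ y ≠ x := fun e => h2 (hinj hψ (e.trans hxf.symm))
      by_cases h3 : B.pull ψ hψ y = y
      · rw [h3, h3]
      have hxy : B.pull ψ hψ y = x * y := by
        have n1 : x * y ≠ 1 := fun e => h2 (ch_eq e).symm
        have n2 : x * y ≠ x := fun e => h1 (mul_eq_left.mp e)
        have n3 : x * y ≠ y := fun e => hx1 (mul_eq_right.mp e)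
        have q1 := hall _ hpy
        have q3 := hall _ hx
        have q4 := hall _ hy
        obtain ⟨P, hP⟩ : ∃ P, P = B.pull ψ hψ y := ⟨_, rfl⟩
        rw [← hP] at q1 c1 c2 h3 ⊢
        clear hP
        have e1 : a * (a * b) = b := by rw [← mul_assoc, ch_sq, one_mul]
        have e2 : b * (a * b) = a := by rw [mul_left_comm, ch_sq, mul_one]
        have e3 : a * b * a = b := by rw [mul_comm, e1]
        have e4 : a * b * b = a := by rw [mul_assoc, ch_sq, mul_one]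
        have e5 : b * a = a * b := mul_comm _ _
        rcases q3 with rfl | rfl | rfl | rfl <;> rcases q4 with rfl | rfl | rfl | rfl <;>
          rcases q1 with rfl | rfl | rfl | rfl <;>
          first
            | exact absurd rfl hx1
            | exact absurd rfl h1
            | exact absurd rfl h2
            | exact absurd rfl c1
            | exact absurd rfl c2
            | exact absurd rfl h3
            | exact e1.symm
            | exact e2.symm
            | exact e3.symm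
            | exact e4.symm
            | exact e5.symm
            | rfl
      rw [hxy, H85.Shult.TwoShape.pull_mul_ch B, hxf, hxy, ← mul_assoc, ch_sq, one_mul]
    refine hker (mul_mem hψ hψ) ?_ ?_
    · rw [B.pull_mul hψ hψ, hcyc a ha]
    · rw [B.pull_mul hψ hψ, hcyc b hbe]
  have hτ1 : τ ≠ 1 := by
    intro e
    apply hτa
    rw [B.pull_congr (hD hτD) (one_mem _) e, B.pull_one]
  have hτo : Odd (orderOf τ) := by
    obtain ⟨k, hk⟩ := orderOf_dvd_natCard (⟨τ, hτD⟩ : D)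
    rw [orderOf_mk] at hk
    rw [hk] at hodd
    exact (Nat.odd_mul.mp hodd).1
  have hτb : B.pull τ hτ b = a * b := by
    have n0 := hall _ (H85.Shult.TwoShape.pull_even B hτ hbe)
    rcases n0 with e | e | e | e
    · exact absurd (hinj hτ (e.trans (hp1 hτ).symm)) hb1
    · exfalso
      have hab : B.pull τ hτ (a * b) = a * b := by
        rw [H85.Shult.TwoShape.pull_mul_ch B, e, ← hb, mul_comm]
      exact hτ1 (hfp hτ hτo _ (fun e => hba (ch_eq e).symm) (even_mul ha hbe) hab)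
    · exact absurd (hinj hτ (e.trans hb)) hba
    · exact e
  have hτab : B.pull τ hτ (a * b) = a := by
    rw [H85.Shult.TwoShape.pull_mul_ch B, ← hb, hτb, mul_left_comm, ch_sq, mul_one]
  have hτ3 : τ ^ 3 = 1 := by
    have e : τ ^ 3 = τ * τ * τ := by rw [pow_succ, pow_two]
    rw [e]
    refine hker (mul_mem (mul_mem hτ hτ) hτ) ?_ ?_
    · rw [B.pull_mul (mul_mem hτ hτ) hτ, B.pull_mul hτ hτ, ← hb, hτb, hτab]
    · rw [B.pull_mul (mul_mem hτ hτ) hτ, B.pull_mul hτ hτ, hτb, hτab, ← hb]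
  have hφb : B.pull φ hφ b = a * b := by
    rcases hall _ (H85.Shult.TwoShape.pull_even B hφ hbe) with e | e | e | e
    · exact absurd (hinj hφ (e.trans (hp1 hφ).symm)) hb1
    · exact absurd (hinj hφ (e.trans haf.symm)) hba
    · exact absurd (hker hφ haf e) hne
    · exact e
  have hφab : B.pull φ hφ (a * b) = b := by
    rw [H85.Shult.TwoShape.pull_mul_ch B, haf, hφb, ← mul_assoc, ch_sq, one_mul]
  have hrel : φ * τ * φ * τ = 1 := by
    refine hker (mul_mem (mul_mem (mul_mem hφ hτ) hφ) hτ) ?_ ?_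
    · rw [B.pull_mul (mul_mem (mul_mem hφ hτ) hφ) hτ, B.pull_mul (mul_mem hφ hτ) hφ,
        B.pull_mul hφ hτ, haf, ← hb, hφb, hτab]
    · rw [B.pull_mul (mul_mem (mul_mem hφ hτ) hφ) hτ, B.pull_mul (mul_mem hφ hτ) hφ,
        B.pull_mul hφ hτ, hφb, hτab, haf, ← hb]
  have hinv : φ * τ * φ⁻¹ = τ⁻¹ := by
    rw [inv_eq_of_mul_eq_one_right h2]
    exact eq_inv_of_mul_eq_one_left hrel
  -- `τ` moves all of `Z` modulo the centre
  have hmov : ∀ z : Z.subgroupOf U, ((τ (z : U) : U) : G) * ((z : U) : G)⁻¹ ∈ center G →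
      ((z : U) : G) ∈ center G := by
    intro z hz
    have heq : ∀ χ, EvenCh U Z χ → B.pull τ hτ χ z = χ z := fun χ hχ => by
      have := hχ (⟨τ (z : U), B.act_Z hτ z.2⟩ * z⁻¹) hz
      rw [map_mul, map_inv, mul_inv_eq_one] at this
      exact this
    have e1 := heq a ha
    have e2 := heq b hbe
    rw [← hb] at e1
    rw [hτb, MonoidHom.mul_apply] at e2
    have haz : a z = 1 := mul_eq_right.mp e2
    have hbz : b z = 1 := e1.trans haz
    refine B.central_of_even fun χ _ hχ => ?_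
    rcases hall χ hχ with e | e | e | e <;> simp [e, haz, hbz]
  -- lift to the fixed elements normalising `U`
  set Γ := (fixed σ).subgroupOf (normalizer (U : Set G)) with hΓ
  let π₀ : Γ →* MulAut U := U.normalizerMonoidHom.comp Γ.subtype
  set Γ' := (normalizer (zpowers τ : Set (MulAut U))).comap π₀ with hΓ'
  haveI : Finite (MulAut U) :=
    Finite.of_injective (fun e : MulAut U => (e : U → U)) DFunLike.coe_injective
  have hrange : ∀ {ψ : MulAut U}, ψ ∈ act σ U → ψ ∈ normalizer (zpowers τ : Set (MulAut U)) →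
      ψ ∈ (π₀.comp Γ'.subtype).range := by
    rintro ψ ⟨x, hx, rfl⟩ hN
    exact ⟨⟨⟨x, hx⟩, hN⟩, rfl⟩
  have hτN : τ ∈ normalizer (zpowers τ : Set (MulAut U)) := le_normalizer (mem_zpowers τ)
  have hφN : φ ∈ normalizer (zpowers τ : Set (MulAut U)) := by
    refine H10.Shult.Rank.mem_normalizer_of_conj fun w hw => ?_
    obtain ⟨j, rfl⟩ := mem_zpowers_iff.mp hw
    rw [← conj_zpow, hinv]
    exact zpow_mem (inv_mem (mem_zpowers τ)) j
  have hout : φ ∉ zpowers τ := by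
    intro h
    obtain ⟨j, rfl⟩ := mem_zpowers_iff.mp h
    apply hne
    have h3 : (τ ^ j) ^ 3 = 1 := by
      rw [← zpow_natCast, ← zpow_mul, mul_comm, zpow_mul, zpow_natCast, hτ3, one_zpow]
    rw [pow_succ, pow_two, h2, one_mul] at h3
    exact h3
  obtain ⟨y, t, ⟨n, hn⟩, hyout, hy2, ht, hyt⟩ := exists_lift (π₀.comp Γ'.subtype) hτ3
    (fun g => g.2) (hrange hτ hτN) (hrange hφ hφN) h2 hout hinv
  obtain ⟨Y, hY⟩ : ∃ Y : G, Y = (((y : Γ) : normalizer (U : Set G)) : G) := ⟨_, rfl⟩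
  obtain ⟨T, hT⟩ : ∃ T : G, T = (((t : Γ) : normalizer (U : Set G)) : G) := ⟨_, rfl⟩
  have hσY : σ Y = Y := hY ▸ (y : Γ).2
  have hYN : Y ∈ normalizer (U : Set G) := hY ▸ ((y : Γ) : normalizer (U : Set G)).2
  have hYn : Y ^ 2 ^ n = 1 := by
    have := congrArg (fun w : Γ' => (((w : Γ) : normalizer (U : Set G)) : G)) hn
    rw [hY]; simpa using this
  have hYT : Y * Y * T = T * (Y * Y) := by
    have := congrArg (fun w : Γ' => (((w : Γ) : normalizer (U : Set G)) : G)) hyt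
    rw [hY, hT]; simpa using this
  have hY2 : Y * Y ∈ center G := by
    refine mem_center_of_comm B hI (by rw [map_mul, hσY]) (mul_mem hYN hYN)
      (n := n) (by rw [← pow_two, ← pow_mul, mul_comm, pow_mul, hYn, one_pow]) hYT ?_
    intro z hz hzt
    refine hmov (B.toZ hz) ?_
    rw [← ht]
    rw [hT] at hzt
    exact hzt
  obtain ⟨z, hz, hzc⟩ := mem_Z_mod B hI hσY hYN hYn hY2
  refine hyout ?_
  have : (π₀.comp Γ'.subtype) y = 1 := MulEquiv.ext fun u => Subtype.ext (by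
    show (((y : Γ) : normalizer (U : Set G)) : G) * u * (((y : Γ) : normalizer (U : Set G)) : G)⁻¹
      = u
    rw [← hY, mul_inv_eq_iff_eq_mul]
    obtain ⟨d, hd⟩ : ∃ d, d = z⁻¹ * Y := ⟨_, rfl⟩
    rw [← hd] at hzc
    have e : Y = z * d := by rw [hd]; group
    rw [e, mul_assoc, ← mem_center_iff.mp hzc (u : G), ← mul_assoc, ← B.cfg.cenU u u.2 z hz,
      mul_assoc])
  rw [this]
  exact one_mem _

include hI hD hodd htr hε₀ hblk hfix in
/-- Fixing an odd character forces odd order. -/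
theorem odd_act : Odd (Nat.card (act σ U)) := by
  classical
  haveI : Finite (MulAut U) :=
    Finite.of_injective (fun e : MulAut U => (e : U → U)) DFunLike.coe_injective
  haveI : Fact (Nat.Prime 2) := ⟨Nat.prime_two⟩
  rw [← Nat.not_even_iff_odd]
  intro hev
  obtain ⟨⟨φ, hφ⟩, ho⟩ := exists_prime_orderOf_dvd_card' 2 (even_iff_two_dvd.mp hev)
  rw [orderOf_mk] at ho
  have h2 : φ * φ = 1 := by rw [← pow_two, ← ho, pow_orderOf_eq_one]
  have hne : φ ≠ 1 := fun e => by rw [e, orderOf_one] at ho; exact absurd ho (by norm_num)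
  have blk : ∀ χ, χ ≠ 1 → EvenCh U Z χ → B.fd.Blk (ε₀ * χ) := fun χ h1 h =>
    hblk _ (H85.Shult.TwoShape.odd_mul_even hε₀ h) fun e => h1 (mul_eq_left.mp e)
  have fix' : ∀ χ, B.pull φ hφ χ = χ → B.pull φ hφ (ε₀ * χ) = ε₀ * χ := fun χ h => by
    rw [H85.Shult.TwoShape.pull_mul_ch B, hfix φ hφ, h]
  have hinf := fun hN {ε η} e1 e2 f1 f2 hne' => (H85.Shult.TwoShape.rad_inf B hD htr hblk hN
    (ε := ε) (η := η) e1 e2 f1 f2 hne').le
  by_cases hb : B.fd.Blk ε₀
  · obtain ⟨χ, h1, h, hf⟩ := exists_fixed_even B hε₀ hφ h2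
    exact hne (B.eq_one_of_two_fixed hφ hb (blk χ h1 h) (hfix φ hφ) (fix' χ hf)
      (hinf (Or.inr hb) hε₀ hb (H85.Shult.TwoShape.odd_mul_even hε₀ h) (blk χ h1 h)
        (fun e => h1 (mul_eq_left.mp e.symm))))
  by_cases h8 : 8 ≤ (Z ⊓ center G).relIndex Z
  · obtain ⟨χ, η, h1, h, hf, g1, g, gf, hχη⟩ := exists_fixed_even' B hε₀ (by omega) hφ h2
    exact hne (B.eq_one_of_two_fixed hφ (blk χ h1 h) (blk η g1 g) (fix' χ hf) (fix' η gf)
      (hinf (Or.inl h8) (H85.Shult.TwoShape.odd_mul_even hε₀ h) (blk χ h1 h)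
        (H85.Shult.TwoShape.odd_mul_even hε₀ g) (blk η g1 g) (fun e => hχη (mul_left_cancel e))))
  refine false_of_four B hI hD hodd htr hε₀ hblk hfix ?_ hφ h2 hne
  obtain ⟨k, hk⟩ := IsPGroup.iff_card.mp (B.cfg.pU.to_le B.hZU)
  obtain ⟨j, -, hj⟩ := (Nat.dvd_prime_pow Nat.prime_two).mp
    (hk ▸ relIndex_dvd_card (H := Z ⊓ center G) (K := Z))
  have := B.h4
  rw [hj] at h8 this ⊢
  rcases (show j < 2 ∨ j = 2 ∨ 2 < j by omega) with h | h | h
  · have := Nat.pow_le_pow_right (show 2 > 0 by norm_num) (show j ≤ 1 by omega)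
    omega
  · rw [h]; norm_num
  · have := Nat.pow_le_pow_right (show 2 > 0 by norm_num) (show 3 ≤ j by omega)
    omega

end H85.Shult.TwoCentral

namespace H85.Shult.TwoCentral

open H41.Shult (Two act OddCh)
open H85.Shult (fixed)

variable {G : Type*} [Group G] [Finite G] {σ : MulAut G} {r m p : ℕ} {S U Z H₀ : Subgroup G}

/-- The induced group has odd order, or all odd characters are blocks and each is moved. -/
theorem odd_or_flip (B : Two σ r m p S U Z H₀)
    (hI : ∀ x ∈ S, σ x = x → x * x ∈ center G → ∃ z ∈ Z, z⁻¹ * x ∈ center G)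
    {D : Subgroup (MulAut U)} (hD : D ≤ act σ U) (hodd : Odd (Nat.card D))
    (htr : ∀ a : U, (a : G) ∈ Z → (a : G) ∉ center G → ∀ b : U, (b : G) ∈ Z →
      (b : G) ∉ center G → ∃ φ ∈ D, ((φ a : U) : G)⁻¹ * b ∈ center G) :
    Odd (Nat.card (act σ U)) ∨ ((∀ ε, OddCh U Z ε → B.fd.Blk ε) ∧
      ∀ ε, OddCh U Z ε → ∃ φ, ∃ hφ : φ ∈ act σ U, B.pull φ hφ ε ≠ ε) := by
  obtain ⟨ε₀, h0, -, hblk⟩ := H85.Shult.TwoShape.shape B hD htr hodd
  by_cases hall : ∀ ε, OddCh U Z ε → B.fd.Blk ε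
  · by_cases hm : ∀ ε, OddCh U Z ε → ∃ φ, ∃ hφ : φ ∈ act σ U, B.pull φ hφ ε ≠ ε
    · exact Or.inr ⟨hall, hm⟩
    push Not at hm
    obtain ⟨ε, hε, hf⟩ := hm
    exact Or.inl (odd_act B hI hD hodd htr hε (fun η hη _ => hall η hη) hf)
  refine Or.inl (odd_act B hI hD hodd htr h0 hblk fun φ hφ => ?_)
  by_contra h
  refine hall fun ε hε => ?_
  by_cases he : ε = ε₀
  · subst he
    have h1 := hblk _ (B.pull_odd hφ hε) h
    have h2 := B.pull_blk (inv_mem hφ) h1
    rwa [H85.Shult.TwoShape.pull_inv B hφ] at h2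
  · exact hblk ε hε he

end H85.Shult.TwoCentral
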