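import Cfsg.Agent.H41.Shult.TwoEnd
import Cfsg.Agent.H85.Shult.TwoCentral
import Cfsg.Agent.H85.Shult.Main

/-!
Shult's fixed point theorem: the fixed points lie in the maximal invariant overgroup, given the
statement that no fixed involution modulo the centre moves a four group `Z` modulo the centre.
-/

set_option autoImplicit false
set_option linter.all false

open Subgroup

namespace H85.Shult.TwoClose

open H41.Shult (Two ncen)

universe u

/-- No fixed involution modulo the centre moves four cosets. -/
def MovingFour : Prop :=
  ∀ {G : Type u} [Group G] [Finite G] {σ : MulAut G} {r m p : ℕ} {S U Z H₀ : Subgroup G}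
    (_ : Two σ r m p S U Z H₀) (h : G), σ h = h → h ∉ H₀ →
      ∀ x ∈ S, σ x = x → x * x ∈ center G → (Z ⊓ center G).relIndex Z = 4 →
        ∀ z ∈ Z, z ∉ ncen x → False

/-- The fixed points lie in the maximal overgroup. -/
theorem fixedInTop (hF : MovingFour.{u}) (r : ℕ) : H85.Shult.FixedInTop.{u} r := by
  intro G _ _ σ m p S U Z H₀ C h4 T
  refine H41.Shult.fixed_le_top_of (fun B h hh hhM => ?_) C h4 T
  exact B.false_of_flip hh hhM (hF B h hh hhM) fun hI D hD htr hodd ε₀ _ _ _ =>
    H85.Shult.TwoCentral.odd_or_flip B hI hD hodd htr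

end H85.Shult.TwoClose
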